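import Mathlib

/-!
If a finite group `U` is normalised by an element `x` such that the powers of the elements of the coset `U x`
are distinct, and all these elements have trivial norm on an abelian group of order prime to that of `U`, then
`U` acts trivially.
-/

set_option autoImplicit false

namespace Cfsg.Lib.SuzSquare

open Subgroup

theorem pow_coset_mem {L : Type*} [Group L] {U : Subgroup L} {x : L} (hx : ∀ u ∈ U, x * u * x⁻¹ ∈ U) {u : L}
    (hu : u ∈ U) (i : ℕ) : (u * x) ^ i * (x ^ i)⁻¹ ∈ U := by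
  induction i with
  | zero => simp
  | succ n ih =>
    rw [pow_succ' (u * x) n, pow_succ' x n,
      show u * x * (u * x) ^ n * (x * x ^ n)⁻¹ = u * (x * ((u * x) ^ n * (x ^ n)⁻¹) * x⁻¹) by group]
    exact U.mul_mem hu (hx _ ih)

/-- The norm lemma. -/
theorem norm_trivial {Q : Type*} [CommGroup Q] {L : Type*} [Group L] (ρ : L →* MulAut Q) (U : Subgroup L) [Finite U]
    (x : L) {c : ℕ} (hc : 0 < c) (hx : ∀ u ∈ U, x * u * x⁻¹ ∈ U)
    (hinj : ∀ i, 0 < i → i < c → ∀ u ∈ U, ∀ u' ∈ U, (u * x) ^ i = (u' * x) ^ i → u = u')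
    (hcop : ∀ v : Q, v ^ Nat.card U = 1 → v = 1)
    (hN : ∀ u ∈ U, ∀ v : Q, ∏ i ∈ Finset.range c, ρ ((u * x) ^ i) v = 1) :
    ∀ u ∈ U, ∀ v : Q, ρ u v = v := by
  classical
  letI := Fintype.ofFinite U
  let Φ : Q → Q := fun w => ∏ u : U, ρ (u : L) w
  have hΦ : ∀ (u₀ : U) w, ρ (u₀ : L) (Φ w) = Φ w := by
    intro u₀ w
    simp only [Φ, map_prod]
    have := Equiv.prod_comp (Equiv.mulLeft u₀) (fun u : U => ρ (u : L) w)
    refine Eq.trans ?_ this
    simp [map_mul]
  have key : ∀ (i : ℕ), 0 < i → i < c → ∀ w, ∏ u : U, ρ (((u : L) * x) ^ i) w = Φ (ρ (x ^ i) w) := by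
    intro i hi hic w
    let f : U → U := fun u => ⟨((u : L) * x) ^ i * (x ^ i)⁻¹, pow_coset_mem hx u.2 i⟩
    have hf : Function.Bijective f := Finite.injective_iff_bijective.1 fun a b e =>
      Subtype.ext (hinj i hi hic a a.2 b b.2 (mul_right_cancel (congrArg Subtype.val e)))
    refine Eq.trans ?_ (hf.prod_comp fun u : U => ρ (u : L) (ρ (x ^ i) w))
    refine Finset.prod_congr rfl fun u _ => ?_
    show _ = ρ (((u : L) * x) ^ i * (x ^ i)⁻¹) (ρ (x ^ i) w)
    rw [← MulAut.mul_apply, ← map_mul, inv_mul_cancel_right]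
  intro u₀ hu₀ v
  have h1 : ∏ u : U, ∏ i ∈ Finset.range c, ρ (((u : L) * x) ^ i) v = 1 :=
    Finset.prod_eq_one fun u _ => hN u u.2 v
  obtain ⟨d, rfl⟩ : ∃ d, c = d + 1 := ⟨c - 1, by omega⟩
  rw [Finset.prod_comm, Finset.prod_range_succ', Finset.prod_congr rfl fun i hi =>
    key (i + 1) (Nat.succ_pos i) (by rw [Finset.mem_range] at hi; omega) v] at h1
  simp only [pow_zero, map_one, MulAut.one_apply, Finset.prod_const, Finset.card_univ] at h1
  rw [← Nat.card_eq_fintype_card] at h1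
  set Z := ∏ i ∈ Finset.range d, Φ (ρ (x ^ (i + 1)) v) with hZ
  have hfix : ρ u₀ Z = Z := by
    rw [hZ, map_prod]
    exact Finset.prod_congr rfl fun i _ => hΦ ⟨u₀, hu₀⟩ _
  have h2 : v ^ Nat.card U = Z⁻¹ := eq_inv_of_mul_eq_one_right h1
  have h3 : (ρ u₀ v / v) ^ Nat.card U = 1 := by
    rw [div_pow, ← map_pow, h2, map_inv, hfix, div_self']
  exact div_eq_one.1 (hcop _ h3)

variable {Γ : Type*} [Group Γ]

theorem mul_pow_prod (v y : Γ) : ∀ n : ℕ,
    (v * y) ^ n = ((List.range n).map fun i => y ^ i * v * (y ^ i)⁻¹).prod * y ^ n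
  | 0 => by simp
  | n + 1 => by
    rw [pow_succ, mul_pow_prod v y n, List.range_succ, List.map_append, List.prod_append, List.map_singleton,
      List.prod_singleton, pow_succ]
    group

/-- The norm lemma for a section of a group. -/
theorem norm_section [Finite Γ] (W W₀ U : Subgroup Γ) (x : Γ) {c : ℕ} (hc : 0 < c)
    (hW₀ : W₀ ≤ W) (hab : ∀ a ∈ W, ∀ b ∈ W, a * b * a⁻¹ * b⁻¹ ∈ W₀)
    (hn : ∀ y ∈ U, y ∈ normalizer (W : Set Γ) ∧ y ∈ normalizer (W₀ : Set Γ))
    (hxW : x ∈ normalizer (W : Set Γ) ∧ x ∈ normalizer (W₀ : Set Γ))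
    (hx : ∀ u ∈ U, x * u * x⁻¹ ∈ U)
    (hinj : ∀ i, 0 < i → i < c → ∀ u ∈ U, ∀ u' ∈ U, (u * x) ^ i = (u' * x) ^ i → u = u')
    (hcop : Nat.Coprime (Nat.card W) (Nat.card U))
    (hN : ∀ u ∈ U, ∀ v ∈ W, (v * (u * x)) ^ c = (u * x) ^ c) :
    ∀ u ∈ U, ∀ v ∈ W, u * v * u⁻¹ * v⁻¹ ∈ W₀ := by
  classical
  let W₀' : Subgroup W := W₀.subgroupOf W
  haveI hnW₀ : W₀'.Normal := ⟨fun a ha b => by
    show ((b * a * b⁻¹ : W) : Γ) ∈ W₀
    rw [show ((b * a * b⁻¹ : W) : Γ) = ((b : Γ) * a * (b : Γ)⁻¹ * (a : Γ)⁻¹) * a by simp [mul_assoc]]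
    exact W₀.mul_mem (hab _ b.2 _ a.2) ha⟩
  letI : CommGroup (W ⧸ W₀') :=
    { (inferInstance : Group (W ⧸ W₀')) with
      mul_comm := fun a b => by
        obtain ⟨a, rfl⟩ := QuotientGroup.mk'_surjective W₀' a
        obtain ⟨b, rfl⟩ := QuotientGroup.mk'_surjective W₀' b
        rw [← map_mul, ← map_mul, QuotientGroup.mk'_apply, QuotientGroup.mk'_apply, QuotientGroup.eq]
        show (((a * b)⁻¹ * (b * a) : W) : Γ) ∈ W₀
        have := hab _ (W.inv_mem b.2) _ (W.inv_mem a.2)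
        simpa [mul_assoc] using this }
  let L : Subgroup Γ := normalizer (W : Set Γ) ⊓ normalizer (W₀ : Set Γ)
  let conjW : L → MulAut W := fun l =>
    { toFun := fun w => ⟨(l : Γ) * w * (l : Γ)⁻¹, (mem_normalizer_iff.1 l.2.1 _).1 w.2⟩
      invFun := fun w => ⟨(l : Γ)⁻¹ * w * (l : Γ), (mem_normalizer_iff'.1 l.2.1 _).2 (by simp [mul_assoc])⟩
      left_inv := fun w => Subtype.ext (by simp [mul_assoc])
      right_inv := fun w => Subtype.ext (by simp [mul_assoc])
      map_mul' := fun a b => Subtype.ext (by simp [mul_assoc]) }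
  have hmap : ∀ l : L, W₀'.map (conjW l).toMonoidHom = W₀' := fun l => by
    refine Subgroup.ext fun w => ?_
    rw [mem_map]
    constructor
    · rintro ⟨a, ha, rfl⟩
      exact (mem_normalizer_iff.1 l.2.2 _).1 ha
    · intro hw
      refine ⟨(conjW l).symm w, ?_, (conjW l).apply_symm_apply w⟩
      show (l : Γ)⁻¹ * w * (l : Γ) ∈ W₀
      exact (mem_normalizer_iff.1 l.2.2 _).2 (by simpa [mul_assoc] using (show (w : Γ) ∈ W₀ from hw))
  let ρ : L →* MulAut (W ⧸ W₀') :=
    { toFun := fun l => QuotientGroup.congr W₀' W₀' (conjW l) (hmap l)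
      map_one' := MulEquiv.ext fun q => by
        obtain ⟨w, rfl⟩ := QuotientGroup.mk'_surjective W₀' q
        show QuotientGroup.mk' W₀' (conjW 1 w) = QuotientGroup.mk' W₀' w
        congr 1
        exact Subtype.ext (show (1 : Γ) * w * (1 : Γ)⁻¹ = w by simp)
      map_mul' := fun a b => MulEquiv.ext fun q => by
        obtain ⟨w, rfl⟩ := QuotientGroup.mk'_surjective W₀' q
        show QuotientGroup.mk' W₀' (conjW (a * b) w) = QuotientGroup.mk' W₀' (conjW a (conjW b w))
        congr 1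
        exact Subtype.ext (by simp [conjW, mul_assoc]) }
  have hUL : U ≤ L := fun y hy => hn y hy
  let x' : L := ⟨x, hxW⟩
  have key := norm_trivial ρ (U.subgroupOf L) x' hc (fun u hu => hx _ hu) ?_ ?_ ?_
  · intro u hu v hv
    have h := key ⟨u, hUL hu⟩ hu (QuotientGroup.mk' W₀' ⟨v, hv⟩)
    have h' : QuotientGroup.mk' W₀' (conjW ⟨u, hUL hu⟩ ⟨v, hv⟩) = QuotientGroup.mk' W₀' ⟨v, hv⟩ := h
    rw [← div_eq_one, ← map_div, QuotientGroup.mk'_apply, QuotientGroup.eq_one_iff, div_eq_mul_inv] at h'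
    exact h'
  · intro i hi hic u hu u' hu' e
    exact Subtype.ext (hinj i hi hic _ hu _ hu' (by simpa [x'] using congrArg Subtype.val e))
  · intro q hq
    rw [Nat.card_congr (Subgroup.subgroupOfEquivOfLe hUL).toEquiv] at hq
    refine orderOf_eq_one_iff.1 (Nat.eq_one_of_dvd_coprimes hcop ?_ (orderOf_dvd_of_pow_eq_one hq))
    exact (orderOf_dvd_natCard q).trans (card_quotient_dvd_card W₀')
  · intro u hu q
    obtain ⟨v, rfl⟩ := QuotientGroup.mk'_surjective W₀' q
    have e : ∏ i ∈ Finset.range c, ρ ((u * x') ^ i) (QuotientGroup.mk' W₀' v) =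
        QuotientGroup.mk' W₀' (((List.range c).map fun i => conjW ((u * x') ^ i) v).prod) := by
      rw [map_list_prod, List.map_map, ← List.toFinset_range, List.prod_toFinset _ List.nodup_range]
      rfl
    rw [e]
    suffices h : ((List.range c).map fun i => conjW ((u * x') ^ i) v).prod = 1 by rw [h, map_one]
    refine W.subtype_injective ?_
    rw [map_list_prod, List.map_map, map_one]
    have h := hN _ hu _ v.2
    rw [mul_pow_prod, mul_eq_right] at h
    exact h

/-- Coprime operators that centralise a subgroup and the quotient centralise the group. -/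
theorem commute_of_section [Finite Γ] {W W₀ : Subgroup Γ} {u v : Γ} (hv : v ∈ W) (hW₀ : W₀ ≤ W)
    (hcop : (Nat.card W).Coprime (orderOf u)) (h₀ : ∀ z ∈ W₀, Commute u z)
    (h : u * v * u⁻¹ * v⁻¹ ∈ W₀) : Commute u v := by
  set z := u * v * u⁻¹ * v⁻¹ with hz
  have key : ∀ n : ℕ, u ^ n * v * (u ^ n)⁻¹ = z ^ n * v := by
    intro n
    induction n with
    | zero => simp
    | succ n ih =>
      calc u ^ (n + 1) * v * (u ^ (n + 1))⁻¹ = u * (u ^ n * v * (u ^ n)⁻¹) * u⁻¹ := by rw [pow_succ']; group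
        _ = u * z ^ n * u⁻¹ * (u * v * u⁻¹) := by rw [ih]; group
        _ = z ^ (n + 1) * v := by
          rw [((h₀ z h).pow_right n).eq, mul_inv_cancel_right, pow_succ]
          rw [hz]; group
  have h1 := key (orderOf u)
  rw [pow_orderOf_eq_one, one_mul, inv_one, mul_one, right_eq_mul] at h1
  have h2 : z = 1 := orderOf_eq_one_iff.1 (Nat.eq_one_of_dvd_coprimes hcop
    (Subgroup.orderOf_dvd_natCard W (hW₀ h)) (orderOf_dvd_of_pow_eq_one h1))
  rw [hz, mul_inv_eq_one, mul_inv_eq_iff_eq_mul] at h2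
  exact h2

/-- `U` centralises a solvable group of coprime order on which the norms of `U x` are trivial. -/
theorem centralizes [Finite Γ] (U : Subgroup Γ) (x : Γ) {c : ℕ} (hc : 0 < c)
    (hx : ∀ u ∈ U, x * u * x⁻¹ ∈ U)
    (hinj : ∀ i, 0 < i → i < c → ∀ u ∈ U, ∀ u' ∈ U, (u * x) ^ i = (u' * x) ^ i → u = u') :
    ∀ W : Subgroup Γ, Group.IsSolvable W → (Nat.card W).Coprime (Nat.card U) →
      (∀ y ∈ U, y ∈ normalizer (W : Set Γ)) → x ∈ normalizer (W : Set Γ) →
      (∀ u ∈ U, ∀ v ∈ W, (v * (u * x)) ^ c = (u * x) ^ c) → ∀ u ∈ U, ∀ v ∈ W, Commute u v := by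
  intro W
  induction hcard : Nat.card W using Nat.strong_induction_on generalizing W with
  | _ n ih =>
    subst hcard
    intro hs hcop hn hxW hN u hu v hv
    rcases eq_or_ne W ⊥ with rfl | hne
    · rw [mem_bot] at hv; subst hv; exact Commute.one_right u
    haveI : Nontrivial W := (nontrivial_iff_ne_bot W).2 hne
    set W₀ := ⁅W, W⁆ with hW₀
    have hle : W₀ ≤ W := commutator_le_self W
    have hlt : Nat.card W₀ < Nat.card W := by
      refine lt_of_le_of_ne (Nat.le_of_dvd Nat.card_pos (card_dvd_of_le hle)) fun e => ?_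
      have e' : W₀ = W := eq_of_le_of_card_ge hle e.ge
      have h1 : ⁅(⊤ : Subgroup W), (⊤ : Subgroup W)⁆ = ⊤ := by
        apply map_injective (W.subtype_injective)
        rw [map_commutator, ← MonoidHom.range_eq_map, range_subtype, ← hW₀, e']
      exact (Group.IsSolvable.commutator_lt_top_of_nontrivial W).ne (by rw [_root_.commutator_def]; exact h1)
    have hnor : ∀ y, y ∈ normalizer (W : Set Γ) → y ∈ normalizer (W₀ : Set Γ) := fun y hy => by
      have hm : W₀.map (MulAut.conj y).toMonoidHom = W₀ := by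
        have hW : W.map (MulAut.conj y).toMonoidHom = W := by
          refine Subgroup.ext fun a => ?_
          rw [mem_map_equiv, MulAut.conj_symm_apply]
          exact (mem_normalizer_iff'.1 hy _).trans (by simp [mul_assoc])
        rw [hW₀, map_commutator, hW]
      rw [mem_normalizer_iff]
      intro a
      conv_rhs => rw [← hm, mem_map_equiv, MulAut.conj_symm_apply]
      simp [mul_assoc]
    have h0 := ih _ hlt W₀ rfl (Group.isSolvable_of_isSolvable_injective (inclusion_injective hle))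
      (hcop.coprime_dvd_left (card_dvd_of_le hle)) (fun y hy => hnor y (hn y hy)) (hnor x hxW)
      (fun a ha b hb => hN a ha b (hle hb))
    have hsec := norm_section W W₀ U x hc hle
      (fun a ha b hb => by
        have := commutator_mem_commutator ha hb
        rwa [← hW₀] at this)
      (fun y hy => ⟨hn y hy, hnor y (hn y hy)⟩) ⟨hxW, hnor x hxW⟩ hx hinj hcop hN u hu v hv
    exact commute_of_section hv hle
      (hcop.coprime_dvd_right (Subgroup.orderOf_dvd_natCard U hu)) (h0 u hu) hsec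

/-- A nontrivial norm gives a fixed element. -/
theorem fixed_of_norm {W : Subgroup Γ} (hab : ∀ a ∈ W, ∀ b ∈ W, Commute a b) {v y : Γ} (hv : v ∈ W)
    (hy : y ∈ normalizer (W : Set Γ)) {c : ℕ} (hyc : ∀ w ∈ W, Commute (y ^ c) w)
    (hne : (v * y) ^ c ≠ y ^ c) : ∃ w ∈ W, w ≠ 1 ∧ Commute y w := by
  refine ⟨(v * y) ^ c * (y ^ c)⁻¹, ?_, fun e => hne (mul_inv_eq_one.1 e), ?_⟩
  · rw [mul_pow_prod, mul_inv_cancel_right]
    refine W.list_prod_mem fun a ha => ?_
    obtain ⟨i, -, rfl⟩ := List.mem_map.1 ha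
    exact (mem_normalizer_iff.1 (pow_mem hy i) v).1 hv
  · have hvy : Commute (v * y) (y ^ c) := ((hyc v hv).symm.mul_left (Commute.self_pow y c))
    have h1 : Commute (v * y) ((v * y) ^ c * (y ^ c)⁻¹) := (Commute.self_pow _ _).mul_right hvy.inv_right
    have hw : (v * y) ^ c * (y ^ c)⁻¹ ∈ W := by
      rw [mul_pow_prod, mul_inv_cancel_right]
      refine W.list_prod_mem fun a ha => ?_
      obtain ⟨i, -, rfl⟩ := List.mem_map.1 ha
      exact (mem_normalizer_iff.1 (pow_mem hy i) v).1 hv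
    have := (hab _ (W.inv_mem hv) _ hw).mul_left h1
    simpa [mul_assoc] using this

end Cfsg.Lib.SuzSquare
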