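import Mathlib
import Cfsg.Agent.Suz.Aut

/-!
Groups between one or two Suzuki groups and their automorphism groups.
-/

set_option autoImplicit false
set_option linter.unusedSectionVars false

namespace Cfsg.Lib.SuzSquare

open Subgroup Cfsg.Lib.Suz

universe u v v₁ v₂ w₁ w₂

section Aut

variable {F : Type v} [Field F] [Fintype F] {k : ℕ} (Q : Par F k)

local notation "SS" => Cfsg.Sz F k

include Q

theorem sz_simple : IsSimpleGroup (Cfsg.Sz F k) :=
  haveI := lie_simple Q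
  (lieEquiv Q).isSimpleGroup

theorem sz_noncomm : ∃ a b : SS, a * b ≠ b * a := by
  refine ⟨uu Q 1 0, wS Q, fun e => ?_⟩
  obtain ⟨a, b, hab⟩ := exists_uu Q (cent_uu Q (uu_mem Q 1 0)
    (fun h => one_ne_zero (uu_inj Q (h.trans (uu_zero Q).symm)).1) e.symm)
  have h1 := congrArg (fun z : SS => (z.1 : Matrix (Fin 4) (Fin 4) F) 0 0) hab
  simp [wS, uu, T, W, Tmat, fn] at h1

theorem orderOf_field_dvd (σ : F ≃+* F) : orderOf σ ∣ 2 * k + 1 := by
  haveI := charP Q
  haveI : Fact (Nat.Prime 2) := ⟨Nat.prime_two⟩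
  exact (Cfsg.Lib.Known.ChevAut.ringAut_facts (F := F) 2 (2 * k + 1) Q.hF).2 ▸ orderOf_dvd_natCard σ

theorem aut_pow_inner (φ : MulAut SS) {n : ℕ} (hn : 2 * k + 1 ∣ n) : ∃ c : SS, φ ^ n = MulAut.conj c := by
  obtain ⟨c, σ, h⟩ := exists_inner_mul_field Q φ
  have comm : ∀ (α : MulAut SS) (d : SS), α * MulAut.conj d = MulAut.conj (α d) * α := fun α d =>
    MulEquiv.ext fun x => by simp
  have key : ∀ j : ℕ, ∃ d : SS, φ ^ j = MulAut.conj d * fld Q (σ ^ j) := by
    intro j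
    induction j with
    | zero => exact ⟨1, by simp⟩
    | succ j ih =>
      obtain ⟨d, hd⟩ := ih
      refine ⟨d * fld Q (σ ^ j) c, ?_⟩
      rw [pow_succ, hd, h, mul_assoc, ← mul_assoc (fld Q (σ ^ j)), comm, mul_assoc, ← map_mul (fld Q), ← pow_succ,
        ← mul_assoc, ← map_mul]
  obtain ⟨d, hd⟩ := key n
  exact ⟨d, by rw [hd, orderOf_dvd_iff_pow_eq_one.1 ((orderOf_field_dvd Q σ).trans hn), map_one, mul_one]⟩

end Aut

section One

variable {H : Type u} [Group H]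

/-- The conjugation automorphism pulled back along a normal embedding. -/
noncomputable def autOf {T : Type v} [Group T] (ι : T →* H) (hι : Function.Injective ι) [hn : ι.range.Normal] :
    H →* MulAut T :=
  (MulAut.congr (MonoidHom.ofInjective hι).symm).toMonoidHom.comp MulAut.conjNormal

theorem autOf_spec {T : Type v} [Group T] {ι : T →* H} (hι : Function.Injective ι) [hn : ι.range.Normal] (g : H)
    (a : T) : ι (autOf ι hι g a) = g * ι a * g⁻¹ := by
  have h1 : ((MonoidHom.ofInjective hι) (autOf ι hι g a) : H) =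
      (MulAut.conjNormal g (MonoidHom.ofInjective hι a) : H) := by
    congr 1
    simp [autOf, MulAut.congr]
  rw [MulAut.conjNormal_apply] at h1
  simpa [MonoidHom.ofInjective_apply] using h1

theorem mem_range_of_inner {T : Type v} [Group T] {ι : T →* H} (hι : Function.Injective ι) [hn : ι.range.Normal]
    (hC : centralizer (ι.range : Set H) = ⊥) {g : H} {c : T} (h : autOf ι hι g = MulAut.conj c) : g = ι c := by
  have hmem : (ι c)⁻¹ * g ∈ centralizer (ι.range : Set H) := mem_centralizer_iff.2 fun w hw => by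
    obtain ⟨a, rfl⟩ := hw
    have e := autOf_spec hι g a
    rw [h, MulAut.conj_apply, map_mul, map_mul, map_inv] at e
    calc ι a * ((ι c)⁻¹ * g) = (ι c)⁻¹ * (ι c * ι a * (ι c)⁻¹) * g := by group
      _ = (ι c)⁻¹ * g * ι a := by rw [e]; group
  rw [hC, mem_bot, inv_mul_eq_one] at hmem
  exact hmem.symm

variable {F : Type v} [Field F] [Fintype F] {k : ℕ}

theorem pow_mem_range (Q : Par F k) {ι : Cfsg.Sz F k →* H} (hι : Function.Injective ι) [hn : ι.range.Normal]
    (hC : centralizer (ι.range : Set H) = ⊥) (g : H) {n : ℕ} (hn' : 2 * k + 1 ∣ n) : g ^ n ∈ ι.range := by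
  obtain ⟨c, hc⟩ := aut_pow_inner Q (autOf ι hι g) hn'
  exact ⟨c, (mem_range_of_inner hι hC (c := c) (by rw [map_pow, hc])).symm⟩

end One

section Two

variable {T₁ : Type v₁} [Group T₁] {T₂ : Type v₂} [Group T₂]

/-- A diagonal automorphism of a product. -/
def Diag (α : MulAut (T₁ × T₂)) : Prop :=
  ∃ (α₁ : MulAut T₁) (α₂ : MulAut T₂), ∀ a b, α (a, b) = (α₁ a, α₂ b)

theorem split_of_simple [IsSimpleGroup T₁] {P₁ : Type w₁} [Group P₁] {P₂ : Type w₂} [Group P₂]
    (hc : ∀ x : P₁, (∀ s, x * s = s * x) → x = 1) (ε : T₁ →* P₁ × P₂) (hε : ε.range.Normal) :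
    (∀ a, (ε a).1 = 1) ∨ (∀ a, (ε a).2 = 1) := by
  rcases (inferInstance : ((MonoidHom.snd P₁ P₂).comp ε).ker.Normal).eq_bot_or_eq_top with h | h
  · left
    intro a
    refine hc _ fun s => ?_
    obtain ⟨z, hz⟩ := ε.range.mul_mem (hε.conj_mem _ ⟨a, rfl⟩ (s, 1)) (ε.range.inv_mem ⟨a, rfl⟩)
    have hz2 : z ∈ ((MonoidHom.snd P₁ P₂).comp ε).ker := by
      rw [MonoidHom.mem_ker, MonoidHom.comp_apply, hz]
      simp
    rw [h, mem_bot] at hz2
    subst hz2
    have h1 := congrArg Prod.fst hz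
    simp only [map_one, Prod.fst_mul, Prod.fst_inv, Prod.fst_one] at h1
    exact (mul_inv_eq_iff_eq_mul.1 (mul_inv_eq_one.1 h1.symm)).symm
  · exact Or.inr fun a => MonoidHom.mem_ker.1 (h ▸ mem_top a : a ∈ ((MonoidHom.snd P₁ P₂).comp ε).ker)

variable [Finite T₁] [Finite T₂] [IsSimpleGroup T₁] [IsSimpleGroup T₂]

theorem diag_or_swap (hc₁ : ∀ x : T₁, (∀ s, x * s = s * x) → x = 1)
    (α : MulAut (T₁ × T₂)) :
    Diag α ∨ (∀ a, (α (a, 1)).1 = 1) ∧ ∀ b, (α (1, b)).2 = 1 := by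
  have hrange : ∀ {T : Type v₁} [Group T] (e : T →* T₁ × T₂), e.range.Normal →
      (α.toMonoidHom.comp e).range.Normal := fun e he => by
    rw [MonoidHom.range_comp]; exact he.map _ α.surjective
  have hrange' : ∀ {T : Type v₂} [Group T] (e : T →* T₁ × T₂), e.range.Normal →
      (α.toMonoidHom.comp e).range.Normal := fun e he => by
    rw [MonoidHom.range_comp]; exact he.map _ α.surjective
  have hl : (MonoidHom.inl T₁ T₂).range.Normal := by
    have : (MonoidHom.inl T₁ T₂).range = (MonoidHom.snd T₁ T₂).ker := by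
      ext ⟨a, b⟩; simp [MonoidHom.mem_ker, Subgroup.mem_prod, eq_comm]
    rw [this]; infer_instance
  have hr : (MonoidHom.inr T₁ T₂).range.Normal := by
    have : (MonoidHom.inr T₁ T₂).range = (MonoidHom.fst T₁ T₂).ker := by
      ext ⟨a, b⟩; simp [MonoidHom.mem_ker, Subgroup.mem_prod, eq_comm]
    rw [this]; infer_instance
  have h1 := split_of_simple hc₁ (α.toMonoidHom.comp (MonoidHom.inl T₁ T₂)) (hrange _ hl)
  have h2 := split_of_simple hc₁ (α.toMonoidHom.comp (MonoidHom.inr T₁ T₂)) (hrange' _ hr)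
  have hsplit : ∀ a b, α (a, b) = α (a, 1) * α (1, b) := fun a b => by
    rw [← map_mul, Prod.mk_mul_mk, mul_one, one_mul]
  rcases h1 with h1 | h1 <;> rcases h2 with h2 | h2
  · exfalso
    obtain ⟨a, ha⟩ := exists_ne (1 : T₁)
    obtain ⟨⟨x, y⟩, e⟩ := α.surjective (a, 1)
    rw [hsplit x y] at e
    have := congrArg Prod.fst e
    simp only [Prod.fst_mul] at this
    rw [show (α (x, 1)).1 = 1 from h1 x, show (α (1, y)).1 = 1 from h2 y, one_mul] at this
    exact ha this.symm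
  · exact Or.inr ⟨h1, h2⟩
  · left
    let f₁ : T₁ →* T₁ := (MonoidHom.fst T₁ T₂).comp (α.toMonoidHom.comp (MonoidHom.inl T₁ T₂))
    let f₂ : T₂ →* T₂ := (MonoidHom.snd T₁ T₂).comp (α.toMonoidHom.comp (MonoidHom.inr T₁ T₂))
    have i₁ : Function.Injective f₁ := fun a b e => by
      have e' : α (a, 1) = α (b, 1) := Prod.ext e ((h1 a).trans (h1 b).symm)
      exact congrArg Prod.fst (α.injective e')
    have i₂ : Function.Injective f₂ := fun a b e => by
      have e' : α (1, a) = α (1, b) := Prod.ext ((h2 a).trans (h2 b).symm) e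
      exact congrArg Prod.snd (α.injective e')
    refine ⟨MulEquiv.ofBijective f₁ (Finite.injective_iff_bijective.1 i₁),
      MulEquiv.ofBijective f₂ (Finite.injective_iff_bijective.1 i₂), fun a b => ?_⟩
    rw [hsplit a b]
    refine Prod.ext ?_ ?_
    · show (α (a, 1)).1 * (α (1, b)).1 = f₁ a
      rw [show (α (1, b)).1 = 1 from h2 b, mul_one]
      rfl
    · show (α (a, 1)).2 * (α (1, b)).2 = f₂ b
      rw [show (α (a, 1)).2 = 1 from h1 a, one_mul]
      rfl
  · exfalso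
    obtain ⟨b, hb⟩ := exists_ne (1 : T₂)
    obtain ⟨⟨x, y⟩, e⟩ := α.surjective (1, b)
    rw [hsplit x y] at e
    have := congrArg Prod.snd e
    simp only [Prod.snd_mul] at this
    rw [show (α (x, 1)).2 = 1 from h1 x, show (α (1, y)).2 = 1 from h2 y, one_mul] at this
    exact hb this.symm

theorem diag_sq (hc₁ : ∀ x : T₁, (∀ s, x * s = s * x) → x = 1) (α : MulAut (T₁ × T₂)) : Diag (α ^ 2) := by
  rcases diag_or_swap hc₁ α with ⟨α₁, α₂, h⟩ | ⟨h1, h2⟩
  · exact ⟨α₁ * α₁, α₂ * α₂, fun a b => by rw [pow_two, MulAut.mul_apply, h, h]; rfl⟩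
  rcases diag_or_swap hc₁ (α ^ 2) with h | ⟨h1', -⟩
  · exact h
  exfalso
  obtain ⟨a, ha⟩ := exists_ne (1 : T₁)
  have e1 : α (a, 1) = (1, (α (a, 1)).2) := Prod.ext (h1 a) rfl
  have e2 : (α ^ 2) (a, 1) = 1 := by
    refine Prod.ext (h1' a) ?_
    rw [pow_two, MulAut.mul_apply, e1]
    exact h2 _
  exact ha (congrArg Prod.fst ((α ^ 2).injective (e2.trans (map_one (α ^ 2)).symm)))

end Two

section TwoSz

variable {H : Type u} [Group H] {F₁ : Type v₁} [Field F₁] [Fintype F₁] {k₁ : ℕ} {F₂ : Type v₂} [Field F₂]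
  [Fintype F₂] {k₂ : ℕ}

theorem center_free {F : Type v} [Field F] [Fintype F] {k : ℕ} (Q : Par F k) (x : Cfsg.Sz F k)
    (h : ∀ s, x * s = s * x) : x = 1 := by
  haveI := sz_simple Q
  rcases (inferInstance : (center (Cfsg.Sz F k)).Normal).eq_bot_or_eq_top with e | e
  · exact (eq_bot_iff_forall _).1 e x (mem_center_iff.2 fun s => (h s).symm)
  · obtain ⟨a, b, hab⟩ := sz_noncomm Q
    exact absurd (mem_center_iff.1 (e ▸ mem_top b) a) hab

theorem pow_mem_range_two (Q₁ : Par F₁ k₁) (Q₂ : Par F₂ k₂) {ι : Cfsg.Sz F₁ k₁ × Cfsg.Sz F₂ k₂ →* H}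
    (hι : Function.Injective ι) [hn : ι.range.Normal] (hC : centralizer (ι.range : Set H) = ⊥) (g : H) {n : ℕ}
    (h₁ : 2 * k₁ + 1 ∣ n) (h₂ : 2 * k₂ + 1 ∣ n) : g ^ (2 * n) ∈ ι.range := by
  haveI := sz_simple Q₁
  haveI := sz_simple Q₂
  obtain ⟨α₁, α₂, h⟩ := diag_sq (center_free Q₁) (autOf ι hι g)
  obtain ⟨c₁, hc₁⟩ := aut_pow_inner Q₁ α₁ h₁
  obtain ⟨c₂, hc₂⟩ := aut_pow_inner Q₂ α₂ h₂
  refine ⟨(c₁, c₂), (mem_range_of_inner hι hC (c := (c₁, c₂)) (MulEquiv.ext fun x => ?_)).symm⟩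
  obtain ⟨a, b⟩ := x
  have key : ∀ j : ℕ, ((autOf ι hι g) ^ 2) ^ j = MulEquiv.prodCongr (α₁ ^ j) (α₂ ^ j) := by
    intro j
    induction j with
    | zero => ext x <;> rfl
    | succ j ih =>
      refine MulEquiv.ext fun x => ?_
      rw [pow_succ, MulAut.mul_apply, ih, show x = (x.1, x.2) from rfl, h, pow_succ, pow_succ]
      rfl
  rw [map_pow, pow_mul, key, hc₁, hc₂]
  simp [MulEquiv.prodCongr, Prod.ext_iff]

end TwoSz

end Cfsg.Lib.SuzSquare
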