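import Mathlib
import Cfsg.Agent.SuzMaxOrders.Arith

/-!
Arithmetic of the four classes of primes of a Suzuki group and of its subfields.
-/

set_option autoImplicit false

namespace Cfsg.Lib.SuzSquare

/-- The four maximal element orders of the Suzuki group over `2 ^ (2 * m + 1)` elements. -/
def tor (m : ℕ) : Fin 4 → ℕ :=
  ![4, 2 ^ (2 * m + 1) - 1, 2 ^ (2 * m + 1) + 2 ^ (m + 1) + 1, 2 ^ (2 * m + 1) - 2 ^ (m + 1) + 1]

/-- An element order of the Suzuki group over `2 ^ (2 * k + 1)` elements is killed by this number. -/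
def expo (k : ℕ) : ℕ := 4 * (2 ^ (2 * k + 1) - 1) * ((2 ^ (2 * k + 1)) ^ 2 + 1)

theorem facts {m : ℕ} (hm : 1 ≤ m) :
    8 ≤ 2 ^ (2 * m + 1) ∧ 4 ≤ 2 ^ (m + 1) ∧ 2 * 2 ^ (m + 1) ≤ 2 ^ (2 * m + 1) ∧
      2 ^ (m + 1) * 2 ^ (m + 1) = 2 * 2 ^ (2 * m + 1) ∧ 2 ∣ 2 ^ (2 * m + 1) ∧ 2 ∣ 2 ^ (m + 1) := by
  refine ⟨?_, ?_, ?_, ?_, dvd_pow_self 2 (by omega), dvd_pow_self 2 (by omega)⟩
  · exact (Nat.pow_le_pow_right (n := 2) two_pos (by omega : 3 ≤ 2 * m + 1))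
  · exact (Nat.pow_le_pow_right (n := 2) two_pos (by omega : 2 ≤ m + 1))
  · rw [← pow_succ']; exact Nat.pow_le_pow_right two_pos (by omega)
  · rw [← pow_add, ← pow_succ']; congr 1; omega

theorem tor_mul {m : ℕ} (hm : 1 ≤ m) : tor m 2 * tor m 3 = (2 ^ (2 * m + 1)) ^ 2 + 1 := by
  obtain ⟨h8, h4, h2, hsq, -, -⟩ := facts hm
  show (2 ^ (2 * m + 1) + 2 ^ (m + 1) + 1) * (2 ^ (2 * m + 1) - 2 ^ (m + 1) + 1) = _
  obtain ⟨w, hw⟩ : ∃ w, 2 ^ (2 * m + 1) = 2 ^ (m + 1) + w := Nat.exists_eq_add_of_le (by omega)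
  rw [hw, Nat.add_sub_cancel_left]
  rw [hw] at hsq
  nlinarith

theorem tor_gt_one {m : ℕ} (hm : 1 ≤ m) (i : Fin 4) : 1 < tor m i := by
  obtain ⟨h8, h4, h2, -, -, -⟩ := facts hm
  fin_cases i <;> simp [tor] <;> omega

theorem tor_odd {m : ℕ} (hm : 1 ≤ m) {i : Fin 4} (hi : i ≠ 0) : tor m i % 2 = 1 := by
  obtain ⟨h8, h4, h2, -, hq, hr⟩ := facts hm
  fin_cases i
  · exact absurd rfl hi
  all_goals (simp [tor] <;> omega)

theorem coprime_four {n : ℕ} (h : n % 2 = 1) : Nat.Coprime 4 n :=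
  (Nat.coprime_two_left.2 (Nat.odd_iff.2 h)).pow_left 2

theorem tor_one_coprime {m : ℕ} (hm : 1 ≤ m) :
    Nat.Coprime (tor m 1) ((2 ^ (2 * m + 1)) ^ 2 + 1) := by
  obtain ⟨h8, -, -, -, hq, -⟩ := facts hm
  show Nat.Coprime (2 ^ (2 * m + 1) - 1) _
  obtain ⟨w, hw⟩ : ∃ w, 2 ^ (2 * m + 1) = w + 1 := ⟨_, (Nat.succ_pred_eq_of_pos (by omega)).symm⟩
  rw [hw, Nat.add_sub_cancel, show (w + 1) ^ 2 + 1 = 2 + w * (w + 2) by ring, Nat.coprime_add_mul_left_right,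
    Nat.coprime_two_right, Nat.odd_iff]
  omega

theorem tor_big_coprime {m : ℕ} (hm : 1 ≤ m) : Nat.Coprime (tor m 2) (tor m 3) := by
  obtain ⟨h8, h4, h2, -, hq, hr⟩ := facts hm
  show Nat.Coprime (2 ^ (2 * m + 1) + 2 ^ (m + 1) + 1) (2 ^ (2 * m + 1) - 2 ^ (m + 1) + 1)
  rw [show 2 ^ (2 * m + 1) + 2 ^ (m + 1) + 1 = 2 ^ (2 * m + 1) - 2 ^ (m + 1) + 1 + 2 ^ (m + 2) by
    rw [pow_succ 2 (m + 1)]; omega, Nat.coprime_self_add_left]
  refine (Nat.coprime_two_left.2 (Nat.odd_iff.2 ?_)).pow_left _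
  omega

theorem tor_coprime {m : ℕ} (hm : 1 ≤ m) {i j : Fin 4} (hij : i ≠ j) : Nat.Coprime (tor m i) (tor m j) := by
  have c0 : ∀ k : Fin 4, k ≠ 0 → Nat.Coprime (tor m 0) (tor m k) := fun k hk => coprime_four (tor_odd hm hk)
  have c12 : Nat.Coprime (tor m 1) (tor m 2) :=
    (tor_one_coprime hm).coprime_dvd_right (tor_mul hm ▸ dvd_mul_right _ _)
  have c13 : Nat.Coprime (tor m 1) (tor m 3) :=
    (tor_one_coprime hm).coprime_dvd_right (tor_mul hm ▸ dvd_mul_left _ _)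
  have c23 := tor_big_coprime hm
  fin_cases i <;> fin_cases j <;>
    first
    | exact absurd rfl hij
    | exact c0 _ (by decide)
    | exact (c0 _ (by decide)).symm
    | exact c12
    | exact c12.symm
    | exact c13
    | exact c13.symm
    | exact c23
    | exact c23.symm

theorem class_unique {m : ℕ} (hm : 1 ≤ m) {p : ℕ} (hp : p.Prime) {i j : Fin 4} (hi : p ∣ tor m i)
    (hj : p ∣ tor m j) : i = j := by
  by_contra h
  exact hp.one_lt.ne' (Nat.eq_one_of_dvd_coprimes (tor_coprime hm h) hi hj)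

theorem two_class {m : ℕ} (hm : 1 ≤ m) {i : Fin 4} (h : 2 ∣ tor m i) : i = 0 :=
  class_unique hm Nat.prime_two h (by decide : 2 ∣ 4)

theorem prime_of_zero {m p : ℕ} (hp : p.Prime) (h : p ∣ tor m 0) : p = 2 :=
  (Nat.prime_dvd_prime_iff_eq hp Nat.prime_two).1 (hp.dvd_of_dvd_pow (n := 2) h)

/-- A prime dividing `2 ^ f - 1` for odd `f` does not divide `2 ^ (2 * e) + 1`. -/
theorem not_sq_add_one {p f e : ℕ} (hp : p.Prime) (hp2 : p ≠ 2) (hf : Odd f) (h : p ∣ 2 ^ f - 1)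
    (h' : p ∣ (2 ^ e) ^ 2 + 1) : False := by
  haveI := Fact.mk hp
  have h1 : (2 : ZMod p) ^ f = 1 := by
    rw [← ZMod.natCast_eq_zero_iff, Nat.cast_sub (Nat.one_le_pow _ _ two_pos)] at h
    push_cast at h
    exact sub_eq_zero.1 h
  have h2 : (2 : ZMod p) ^ (2 * e) = -1 := by
    rw [← ZMod.natCast_eq_zero_iff] at h'
    push_cast at h'
    rw [mul_comm, pow_mul]
    linear_combination h'
  have h3 : (-1 : ZMod p) ^ f = 1 := by rw [← h2, ← pow_mul, mul_comm, pow_mul, h1, one_pow]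
  rw [hf.neg_one_pow] at h3
  have h4 : ((2 : ℕ) : ZMod p) = 0 := by
    push_cast
    linear_combination -h3
  rw [ZMod.natCast_eq_zero_iff] at h4
  exact hp2 ((Nat.prime_dvd_prime_iff_eq hp Nat.prime_two).1 h4)

/-- If every prime of `2 ^ f - 1` divides `2 ^ e - 1` then `f` divides `e`. -/
theorem dvd_of_primes {f e : ℕ} (hf : Odd f) (he : 0 < e)
    (h : ∀ p : ℕ, p.Prime → p ∣ 2 ^ f - 1 → p ∣ 2 ^ e - 1) : f ∣ e := by
  set g := Nat.gcd f e with hg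
  rcases eq_or_ne g f with e' | hne
  · exact e' ▸ Nat.gcd_dvd_right f e
  exfalso
  have hgf : g ∣ f := Nat.gcd_dvd_left f e
  obtain ⟨w, hw⟩ := hgf
  have hw1 : w ≠ 1 := fun h1 => hne (by rw [hw, h1, mul_one])
  obtain ⟨p, hp, hpw⟩ := Nat.exists_prime_and_dvd hw1
  have hgpos : 0 < g := Nat.gcd_pos_of_pos_right f he
  have hodd : Odd p := hf.of_dvd_nat (hw ▸ hpw.mul_left g)
  obtain ⟨r, hr, hr1, hr2⟩ := Cfsg.Lib.SuzMax.exists_new_prime (x := 2 ^ g) hp hodd (Nat.le_self_pow hgpos.ne' 2)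
  rw [← pow_mul] at hr1
  have hrf : r ∣ 2 ^ f - 1 :=
    hr1.trans (Nat.pow_sub_one_dvd_pow_sub_one 2 (hw ▸ mul_dvd_mul_left g hpw))
  exact hr2 (Cfsg.Lib.SuzMax.dvd_sub_one_gcd hrf (h r hr hrf))

/-- In a ring where `h * h = 2 * Q` and `Q + s * h + 1 = 0` for a sign `s`, the odd powers. -/
theorem split_pow {R : Type*} [CommRing R] {Q h s : R} (hh : h * h = 2 * Q) (hs : s * s = 1)
    (h0 : Q + s * h + 1 = 0) (t : ℕ) :
    Q ^ (2 * t + 1) + (s * (-1) ^ ((t + 1) / 2)) * (h * Q ^ t) + 1 = 0 := by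
  have hu : (s * h + 1) * (s * h + 1) = -1 := by
    linear_combination (h * h) * hs + hh + 2 * h0
  have hQ : Q = -(s * h + 1) := by linear_combination h0
  obtain ⟨u, hu'⟩ : ∃ u, s * h + 1 = u := ⟨_, rfl⟩
  rw [hu'] at hu hQ
  have hp : ∀ j, (-u) ^ (2 * j) = (-1) ^ j := fun j => by rw [pow_mul, neg_pow_two, pow_two u, hu]
  have hneg : ∀ j, ((-1 : R) ^ j) * (-1) ^ j = 1 := fun j => by rw [← mul_pow]; norm_num
  rw [hQ]
  rcases Nat.even_or_odd' t with ⟨j, rfl | rfl⟩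
  · have hj := hneg j
    rw [show (2 * j + 1) / 2 = j by omega, pow_succ, hp, hp, (even_two_mul j).neg_one_pow]
    linear_combination (s * h) * hj + hu'
  · have hj := hneg j
    rw [show (2 * j + 1 + 1) / 2 = j + 1 by omega, pow_succ (-u) (2 * (2 * j + 1)), hp, pow_succ (-u) (2 * j),
      hp, (odd_two_mul_add_one j).neg_one_pow, pow_succ (-1 : R) j]
    linear_combination (s * h * u) * hj + u * hu' + hu

theorem sub_split_pos {k t : ℕ} (hk : 1 ≤ k) {m : ℕ} (hm : 2 * m + 1 = (2 * k + 1) * (2 * t + 1)) :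
    (tor k 2 ∣ tor m 2 ∧ tor k 3 ∣ tor m 3) ∨ (tor k 2 ∣ tor m 3 ∧ tor k 3 ∣ tor m 2) := by
  have hm1 : 1 ≤ m := by nlinarith
  obtain ⟨k8, k4, k2, ksq, -, -⟩ := facts hk
  obtain ⟨m8, m4, m2, msq, -, -⟩ := facts hm1
  have eq1 : 2 ^ (2 * m + 1) = (2 ^ (2 * k + 1)) ^ (2 * t + 1) := by rw [← pow_mul, hm]
  have eq2 : 2 ^ (m + 1) = 2 ^ (k + 1) * (2 ^ (2 * k + 1)) ^ t := by
    rw [← pow_mul, ← pow_add]; congr 1; nlinarith
  have key : ∀ n : ℕ, ∀ s : ℤ, s * s = 1 →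
      ((2 ^ (2 * k + 1) : ℕ) : ℤ) + s * (2 ^ (k + 1) : ℕ) + 1 = n →
      (n : ℤ) ∣ ((2 ^ (2 * m + 1) : ℕ) : ℤ) + s * (-1) ^ ((t + 1) / 2) * (2 ^ (m + 1) : ℕ) + 1 := by
    intro n s hs hn
    rw [← ZMod.intCast_zmod_eq_zero_iff_dvd, eq1, eq2]
    have h1 := congrArg (fun z : ℤ => (z : ZMod n)) hn
    have h2 := congrArg (fun z : ℕ => (z : ZMod n)) ksq
    have h3 := congrArg (fun z : ℤ => (z : ZMod n)) hs
    simp only [Int.cast_add, Int.cast_mul, Int.cast_natCast, Int.cast_one, Nat.cast_mul, ZMod.natCast_self,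
      Nat.cast_ofNat] at h1 h2 h3
    have := split_pow (R := ZMod n) h2 h3 h1 t
    push_cast at this ⊢
    linear_combination this
  have kA : ((tor k 2 : ℕ) : ℤ) = ((2 ^ (2 * k + 1) : ℕ) : ℤ) + 1 * (2 ^ (k + 1) : ℕ) + 1 := by
    show ((2 ^ (2 * k + 1) + 2 ^ (k + 1) + 1 : ℕ) : ℤ) = _
    push_cast; ring
  have kB : ((tor k 3 : ℕ) : ℤ) = ((2 ^ (2 * k + 1) : ℕ) : ℤ) + (-1) * (2 ^ (k + 1) : ℕ) + 1 := by
    show ((2 ^ (2 * k + 1) - 2 ^ (k + 1) + 1 : ℕ) : ℤ) = _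
    rw [Nat.cast_add, Nat.cast_sub (by omega)]; ring
  have a := key _ 1 (by norm_num) kA.symm
  have b := key _ (-1) (by norm_num) kB.symm
  have mA : ((tor m 2 : ℕ) : ℤ) = ((2 ^ (2 * m + 1) : ℕ) : ℤ) + 1 * (2 ^ (m + 1) : ℕ) + 1 := by
    show ((2 ^ (2 * m + 1) + 2 ^ (m + 1) + 1 : ℕ) : ℤ) = _
    push_cast; ring
  have mB : ((tor m 3 : ℕ) : ℤ) = ((2 ^ (2 * m + 1) : ℕ) : ℤ) + (-1) * (2 ^ (m + 1) : ℕ) + 1 := by
    show ((2 ^ (2 * m + 1) - 2 ^ (m + 1) + 1 : ℕ) : ℤ) = _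
    rw [Nat.cast_add, Nat.cast_sub (by omega)]; ring
  rcases neg_one_pow_eq_or ℤ ((t + 1) / 2) with e | e <;> rw [e] at a b
  · left
    rw [show (1 : ℤ) * 1 = 1 by norm_num, ← mA, Int.natCast_dvd_natCast] at a
    rw [show (-1 : ℤ) * 1 = -1 by norm_num, ← mB, Int.natCast_dvd_natCast] at b
    exact ⟨a, b⟩
  · right
    rw [show (1 : ℤ) * -1 = -1 by norm_num, ← mB, Int.natCast_dvd_natCast] at a
    rw [show (-1 : ℤ) * -1 = 1 by norm_num, ← mA, Int.natCast_dvd_natCast] at b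
    exact ⟨a, b⟩

theorem sub_split {k m : ℕ} (hk : 1 ≤ k) (hkm : 2 * k + 1 ∣ 2 * m + 1) :
    (tor k 2 ∣ tor m 2 ∧ tor k 3 ∣ tor m 3) ∨ (tor k 2 ∣ tor m 3 ∧ tor k 3 ∣ tor m 2) := by
  obtain ⟨j, hj⟩ := hkm
  have hodd : Odd j := ((odd_two_mul_add_one m).of_dvd_nat (Dvd.intro_left _ hj.symm))
  obtain ⟨t, rfl⟩ := hodd
  exact sub_split_pos hk hj

/-- Every maximal element order of the subfield group divides one of the group. -/
theorem sub_tor {k m : ℕ} (hk : 1 ≤ k) (hkm : 2 * k + 1 ∣ 2 * m + 1) (i : Fin 4) :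
    ∃ j : Fin 4, tor k i ∣ tor m j := by
  fin_cases i
  · exact ⟨0, dvd_rfl⟩
  · exact ⟨1, Nat.pow_sub_one_dvd_pow_sub_one 2 hkm⟩
  · rcases sub_split hk hkm with h | h
    · exact ⟨2, h.1⟩
    · exact ⟨3, h.1⟩
  · rcases sub_split hk hkm with h | h
    · exact ⟨3, h.2⟩
    · exact ⟨2, h.2⟩

theorem five_dvd {m : ℕ} (hm : 1 ≤ m) : ∃ i : Fin 4, (i = 2 ∨ i = 3) ∧ 5 ∣ tor m i := by
  have h : 5 ∣ tor m 2 * tor m 3 := by
    rw [tor_mul hm, ← pow_mul, show (2 * m + 1) * 2 = 4 * m + 2 by ring, pow_add, pow_mul, Nat.dvd_iff_mod_eq_zero]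
    simp [Nat.add_mod, Nat.mul_mod, Nat.pow_mod]
  rcases (Nat.Prime.dvd_mul (by norm_num)).1 h with h | h
  · exact ⟨2, Or.inl rfl, h⟩
  · exact ⟨3, Or.inr rfl, h⟩

/-- A prime `l` equal to `e` dividing `2 ^ (2 * e) + 1` is five. -/
theorem eq_five {l : ℕ} (hl : l.Prime) (h : l ∣ (2 ^ l) ^ 2 + 1) : l = 5 := by
  haveI := Fact.mk hl
  rw [← ZMod.natCast_eq_zero_iff] at h
  push_cast at h
  rw [ZMod.pow_card] at h
  have h5 : ((5 : ℕ) : ZMod l) = 0 := by push_cast; linear_combination h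
  rw [ZMod.natCast_eq_zero_iff] at h5
  exact (Nat.prime_dvd_prime_iff_eq hl (by norm_num)).1 h5

section Bounds

theorem two_pow_gt {n : ℕ} (hn : 15 ≤ n) : n ^ 15 < 2 ^ (7 * n - 45) := by
  induction n, hn using Nat.le_induction with
  | base => decide +kernel
  | succ n hn ih =>
    have h1 : (n + 1) ^ 15 ≤ 4 * n ^ 15 := by
      have h2 : (n + 1) * 15 ≤ 16 * n := by omega
      have h3 : ((n + 1) * 15) ^ 15 ≤ (16 * n) ^ 15 := Nat.pow_le_pow_left h2 15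
      rw [mul_pow, mul_pow] at h3
      have h4 : 16 ^ 15 ≤ 4 * 15 ^ 15 := by norm_num
      refine Nat.le_of_mul_le_mul_right (c := 15 ^ 15) (h3.trans ?_) (by norm_num)
      calc 16 ^ 15 * n ^ 15 ≤ 4 * 15 ^ 15 * n ^ 15 := Nat.mul_le_mul h4 le_rfl
        _ = _ := by ring
    calc (n + 1) ^ 15 ≤ 4 * n ^ 15 := h1
      _ < 4 * 2 ^ (7 * n - 45) := by omega
      _ ≤ 2 ^ (7 * (n + 1) - 45) := by
          rw [show 4 = 2 ^ 2 from rfl, ← pow_add]
          exact Nat.pow_le_pow_right two_pos (by omega)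

/-- The numerical inequality behind the existence of large prime powers outside two subfield groups. -/
theorem ineq_two {a b e : ℕ} (ha : a ∣ e) (hb : b ∣ e) (ha3 : 3 ≤ a) (hb3 : 3 ≤ b) (hab : a ≠ b) (hae : a < e)
    (hbe : b < e) (he : Odd e) : e * 2 ^ (a + b + 2) < 2 ^ (e - 1) := by
  obtain ⟨i, hi⟩ := ha
  obtain ⟨j, hj⟩ := hb
  have oi : Odd i := he.of_dvd_nat (Dvd.intro_left _ hi.symm)
  have oj : Odd j := he.of_dvd_nat (Dvd.intro_left _ hj.symm)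
  obtain ⟨i', hi'⟩ := oi
  obtain ⟨j', hj'⟩ := oj
  have i3 : 3 ≤ i := by
    rcases Nat.eq_zero_or_pos i' with e0 | e0
    · subst e0; simp at hi'; subst hi'; omega
    · omega
  have j3 : 3 ≤ j := by
    rcases Nat.eq_zero_or_pos j' with e0 | e0
    · subst e0; simp at hj'; subst hj'; omega
    · omega
  have hij : i ≠ j := fun h => hab (by
    rw [h] at hi
    exact Nat.eq_of_mul_eq_mul_right (by omega) (hi.symm.trans hj))
  have key : 15 * (a + b) ≤ 8 * e := by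
    rcases lt_or_gt_of_ne hij with h | h
    · have : 5 ≤ j := by omega
      nlinarith
    · have : 5 ≤ i := by omega
      nlinarith
  have h15 : 15 ≤ e := by
    rcases lt_or_gt_of_ne hij with h | h
    · have : 5 ≤ j := by omega
      nlinarith
    · have : 5 ≤ i := by omega
      nlinarith
  have h1 : e < 2 ^ (e - a - b - 3) := by
    by_contra hc
    push Not at hc
    have h2 := two_pow_gt h15
    have h3 : (2 ^ (e - a - b - 3)) ^ 15 ≤ e ^ 15 := Nat.pow_le_pow_left hc 15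
    rw [← pow_mul] at h3
    have h4 : (2 : ℕ) ^ (7 * e - 45) ≤ 2 ^ ((e - a - b - 3) * 15) := Nat.pow_le_pow_right two_pos (by omega)
    omega
  calc e * 2 ^ (a + b + 2) < 2 ^ (e - a - b - 3) * 2 ^ (a + b + 2) :=
        Nat.mul_lt_mul_of_pos_right h1 (pow_pos two_pos _)
    _ = 2 ^ (e - 1) := by rw [← pow_add]; congr 1; omega

/-- The numerical inequality for one subfield group. -/
theorem ineq_one {a e : ℕ} (ha : a ∣ e) (ha3 : 3 ≤ a) (hae : a < e) (he : Odd e) :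
    e * 2 ^ (a + 1) < 2 ^ (e - 1) := by
  obtain ⟨i, hi⟩ := ha
  obtain ⟨i', hi'⟩ := he.of_dvd_nat (Dvd.intro_left _ hi.symm)
  have i3 : 3 ≤ i := by
    rcases Nat.eq_zero_or_pos i' with e0 | e0
    · subst e0; simp at hi'; subst hi'; omega
    · omega
  have h9 : 9 ≤ e := by nlinarith
  have h3a : 3 * a ≤ e := by nlinarith
  have h1 : ∀ n : ℕ, 9 ≤ n → n < 2 ^ (n - n / 3 - 2) := by
    intro n hn
    induction n using Nat.strong_induction_on with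
    | _ n ih =>
      rcases lt_or_ge n 12 with hlt | hge
      · interval_cases n <;> norm_num
      · have h := ih (n - 3) (by omega) (by omega)
        calc n ≤ 4 * (n - 3) := by omega
          _ < 4 * 2 ^ (n - 3 - (n - 3) / 3 - 2) := by omega
          _ = 2 ^ (n - n / 3 - 2) := by rw [show 4 = 2 ^ 2 from rfl, ← pow_add]; congr 1; omega
  calc e * 2 ^ (a + 1) < 2 ^ (e - a - 2) * 2 ^ (a + 1) := Nat.mul_lt_mul_of_pos_right
        ((h1 e h9).trans_le (Nat.pow_le_pow_right two_pos (by omega))) (pow_pos two_pos _)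
    _ = 2 ^ (e - 1) := by rw [← pow_add]; congr 1; omega

end Bounds

theorem gcd_split (a x y : ℕ) : Nat.gcd a (x * y) ∣ Nat.gcd a x * Nat.gcd a y :=
  gcd_mul_dvd_mul_gcd a x y

/-- The bound on the common divisor of a maximal order and the order killing a subfield group. -/
theorem gcd_expo_le {k m : ℕ} (hm : 1 ≤ m) (hk : 1 ≤ k) (hkm : 2 * k + 1 ∣ 2 * m + 1) {i : Fin 4} (hi : i ≠ 0) :
    Nat.gcd (tor m i) (expo k) ≤ 2 ^ (2 * k + 2) := by
  obtain ⟨k8, k4, k2, ksq, -, -⟩ := facts hk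
  have hq : (2 : ℕ) ^ (2 * k + 2) = 2 * 2 ^ (2 * k + 1) := by rw [← pow_succ']
  have hk1 : tor k 1 ∣ tor m 1 := Nat.pow_sub_one_dvd_pow_sub_one 2 hkm
  have c4 : Nat.Coprime (tor m i) 4 := (coprime_four (tor_odd hm hi)).symm
  have e1 : Nat.gcd (tor m i) (expo k) ∣ Nat.gcd (tor m i) (tor k 1) * (Nat.gcd (tor m i) (tor k 2) *
      Nat.gcd (tor m i) (tor k 3)) := by
    rw [expo, mul_assoc, Nat.Coprime.gcd_mul_left_cancel_right _ c4.symm, ← tor_mul hk]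
    exact (gcd_split _ _ _).trans (Nat.mul_dvd_mul_left _ (gcd_split _ _ _))
  have pos : ∀ j, 0 < Nat.gcd (tor m i) (tor k j) := fun j =>
    Nat.gcd_pos_of_pos_left _ ((tor_gt_one hm i).le)
  have off : ∀ j l, tor k j ∣ tor m l → l ≠ i → Nat.gcd (tor m i) (tor k j) = 1 := fun j l hd hne =>
    Nat.Coprime.coprime_dvd_right hd (tor_coprime hm hne.symm)
  have le_tor : ∀ j, Nat.gcd (tor m i) (tor k j) ≤ tor k j := fun j =>
    Nat.gcd_le_right _ ((tor_gt_one hk j).le)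
  have hA : tor k 2 ≤ 2 ^ (2 * k + 2) := by
    show 2 ^ (2 * k + 1) + 2 ^ (k + 1) + 1 ≤ _
    omega
  have hB : tor k 3 ≤ 2 ^ (2 * k + 2) := by
    show 2 ^ (2 * k + 1) - 2 ^ (k + 1) + 1 ≤ _
    omega
  have h1le : tor k 1 ≤ 2 ^ (2 * k + 2) := by
    show 2 ^ (2 * k + 1) - 1 ≤ _
    omega
  refine (Nat.le_of_dvd (Nat.mul_pos (pos 1) (Nat.mul_pos (pos 2) (pos 3))) e1).trans ?_
  rcases sub_split hk hkm with ⟨s2, s3⟩ | ⟨s2, s3⟩ <;> fin_cases i
  · exact absurd rfl hi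
  · rw [off 2 2 s2 (by decide), off 3 3 s3 (by decide), mul_one, mul_one]; exact (le_tor 1).trans h1le
  · rw [off 1 1 hk1 (by decide), off 3 3 s3 (by decide), one_mul, mul_one]; exact (le_tor 2).trans hA
  · rw [off 1 1 hk1 (by decide), off 2 2 s2 (by decide), one_mul, one_mul]; exact (le_tor 3).trans hB
  · exact absurd rfl hi
  · rw [off 2 3 s2 (by decide), off 3 2 s3 (by decide), mul_one, mul_one]; exact (le_tor 1).trans h1le
  · rw [off 1 1 hk1 (by decide), off 2 3 s2 (by decide), one_mul, one_mul]; exact (le_tor 3).trans hB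
  · rw [off 1 1 hk1 (by decide), off 3 2 s3 (by decide), one_mul, mul_one]; exact (le_tor 2).trans hA

theorem two_pow_le_tor {m : ℕ} (hm : 1 ≤ m) {i : Fin 4} (hi : i ≠ 0) : 2 ^ (2 * m) ≤ tor m i := by
  obtain ⟨h8, h4, h2, -, -, -⟩ := facts hm
  have e : 2 ^ (2 * m + 1) = 2 * 2 ^ (2 * m) := pow_succ' 2 _
  fin_cases i
  · exact absurd rfl hi
  all_goals (simp [tor]; omega)

/-- The multiplier for the field automorphisms. -/
def outer (m : ℕ) : ℕ := 2 * (2 * m + 1)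

theorem not_dvd_outer {m : ℕ} (hm : 1 ≤ m) (i : Fin 4) : ¬ tor m i ∣ outer m := by
  intro h
  have hodd : (2 * m + 1) % 2 = 1 := by omega
  by_cases hi : i = 0
  · subst hi
    have : 4 ∣ 2 * (2 * m + 1) := h
    omega
  · have h1 : tor m i ∣ 2 * m + 1 :=
      (Nat.Coprime.dvd_of_dvd_mul_left (Nat.coprime_two_right.2 (Nat.odd_iff.2 (tor_odd hm hi))) h)
    have h2 := (two_pow_le_tor hm hi).trans (Nat.le_of_dvd (by omega) h1)
    have h3 : ∀ n : ℕ, 1 ≤ n → 2 * n + 1 < 2 ^ (2 * n) := by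
      intro n hn
      induction n, hn using Nat.le_induction with
      | base => norm_num
      | succ n hn ih => rw [show 2 * (n + 1) = 2 * n + 2 by ring, pow_add]; omega
    have := h3 m hm
    omega

theorem not_dvd_one {k m : ℕ} (hm : 1 ≤ m) (hk : 1 ≤ k) (hkm : 2 * k + 1 ∣ 2 * m + 1) (hlt : k < m) {i : Fin 4}
    (hi : i ≠ 0) : ¬ tor m i ∣ outer m * expo k := by
  intro h
  have h1 : tor m i ∣ (2 * m + 1) * Nat.gcd (tor m i) (expo k) := by
    have h2 : tor m i ∣ (2 * m + 1) * expo k := by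
      rw [outer, mul_assoc] at h
      exact Nat.Coprime.dvd_of_dvd_mul_left (Nat.coprime_two_right.2 (Nat.odd_iff.2 (tor_odd hm hi))) h
    exact (Nat.dvd_gcd (dvd_mul_left _ _) h2).trans (by rw [Nat.gcd_mul_left])
  have h2 := (two_pow_le_tor hm hi).trans
    ((Nat.le_of_dvd (Nat.mul_pos (by omega) (Nat.gcd_pos_of_pos_left _ (tor_gt_one hm i).le)) h1).trans
      (Nat.mul_le_mul le_rfl (gcd_expo_le hm hk hkm hi)))
  have h3 := ineq_one hkm (by omega) (by omega) (odd_two_mul_add_one m)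
  rw [show 2 * k + 1 + 1 = 2 * k + 2 by ring, show 2 * m + 1 - 1 = 2 * m by omega] at h3
  omega

theorem not_dvd_two {k l m : ℕ} (hm : 1 ≤ m) (hk : 1 ≤ k) (hkm : 2 * k + 1 ∣ 2 * m + 1) (hlt : k < m) (hl : 1 ≤ l)
    (hlm : 2 * l + 1 ∣ 2 * m + 1) (hlt' : l < m) {i : Fin 4} (hi : i ≠ 0) :
    ¬ tor m i ∣ outer m * Nat.lcm (expo k) (expo l) := by
  intro h
  rcases eq_or_ne k l with rfl | hne
  · rw [Nat.lcm_self] at h
    exact not_dvd_one hm hk hkm hlt hi h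
  have h1 : tor m i ∣ (2 * m + 1) * (Nat.gcd (tor m i) (expo k) * Nat.gcd (tor m i) (expo l)) := by
    have h2 : tor m i ∣ (2 * m + 1) * (expo k * expo l) := by
      rw [outer, mul_assoc] at h
      exact (Nat.Coprime.dvd_of_dvd_mul_left (Nat.coprime_two_right.2 (Nat.odd_iff.2 (tor_odd hm hi))) h).trans
        (Nat.mul_dvd_mul_left _ (Nat.lcm_dvd (dvd_mul_right _ _) (dvd_mul_left _ _)))
    refine ((Nat.dvd_gcd (dvd_mul_left _ _) h2).trans (by rw [Nat.gcd_mul_left])).trans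
      (Nat.mul_dvd_mul_left _ (gcd_split _ _ _))
  have pos := fun n => Nat.gcd_pos_of_pos_left n (tor_gt_one hm i).le
  have h2 := (two_pow_le_tor hm hi).trans
    ((Nat.le_of_dvd (Nat.mul_pos (by omega) (Nat.mul_pos (pos _) (pos _))) h1).trans
      (Nat.mul_le_mul le_rfl (Nat.mul_le_mul (gcd_expo_le hm hk hkm hi) (gcd_expo_le hm hl hlm hi))))
  have h3 := ineq_two hkm hlm (by omega) (by omega) (by omega) (by omega) (by omega) (odd_two_mul_add_one m)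
  rw [show 2 * k + 1 + (2 * l + 1) + 2 = (2 * k + 2) + (2 * l + 2) by ring, pow_add,
    show 2 * m + 1 - 1 = 2 * m by omega] at h3
  omega

theorem exists_rep {n M : ℕ} (hn : n ≠ 0) (h : ¬ n ∣ M) :
    ∃ p v : ℕ, p.Prime ∧ 1 ≤ v ∧ p ^ v ∣ n ∧ ¬ p ^ v ∣ M := by
  by_contra hno
  push Not at hno
  refine h ((Nat.dvd_iff_prime_pow_dvd_dvd M n).2 fun p v hp hd => ?_)
  rcases Nat.eq_zero_or_pos v with rfl | hv
  · simp
  · exact hno p v hp hv hd

end Cfsg.Lib.SuzSquare
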