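import Mathlib
import Cfsg.Agent.SuzSquare.Arith
import Cfsg.Agent.SolvStruct.FourPrimes.Main

/-!
The consequences of the shape of the spectrum of the square of a Suzuki group.
-/

set_option autoImplicit false

namespace Cfsg.Lib.SuzSquare

open Subgroup

universe u v

/-- Every element order divides the least common multiple of two maximal orders of the Suzuki group. -/
structure Shape (m : ℕ) (G : Type u) [Group G] : Prop where
  hm : 1 ≤ m
  shape : ∀ g : G, ∃ i j : Fin 4, orderOf g ∣ Nat.lcm (tor m i) (tor m j)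

namespace Shape

variable {m : ℕ} {G : Type u} [Group G]

theorem of_injective (S : Shape m G) {H : Type v} [Group H] (f : H →* G) (hf : Function.Injective f) : Shape m H :=
  ⟨S.hm, fun h => by rw [← orderOf_injective f hf h]; exact S.shape _⟩

theorem of_surjective (S : Shape m G) {H : Type v} [Group H] (f : G →* H) (hf : Function.Surjective f) :
    Shape m H :=
  ⟨S.hm, fun h => by
    obtain ⟨g, rfl⟩ := hf h
    obtain ⟨i, j, hij⟩ := S.shape g
    exact ⟨i, j, (orderOf_map_dvd f g).trans hij⟩⟩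

theorem subgroup (S : Shape m G) (H : Subgroup G) : Shape m H := S.of_injective H.subtype H.subtype_injective

theorem pp (S : Shape m G) {g : G} {p v : ℕ} (hp : p.Prime) (hd : p ^ v ∣ orderOf g) :
    ∃ i : Fin 4, p ^ v ∣ tor m i := by
  obtain ⟨i, j, hij⟩ := S.shape g
  have ne : ∀ l, tor m l ≠ 0 := fun l => (Nat.zero_lt_of_lt (tor_gt_one S.hm l)).ne'
  have h := (hp.pow_dvd_iff_le_factorization (Nat.lcm_ne_zero (ne i) (ne j))).1 (hd.trans hij)
  rw [Nat.factorization_lcm (ne i) (ne j), Finsupp.sup_apply] at h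
  rcases le_sup_iff.1 h with h | h
  · exact ⟨i, (hp.pow_dvd_iff_le_factorization (ne i)).2 h⟩
  · exact ⟨j, (hp.pow_dvd_iff_le_factorization (ne j)).2 h⟩

theorem cls (S : Shape m G) [Finite G] {p : ℕ} (hp : p.Prime) (hd : p ∣ Nat.card G) : ∃ i : Fin 4, p ∣ tor m i := by
  haveI := Fact.mk hp
  obtain ⟨g, hg⟩ := exists_prime_orderOf_dvd_card' (G := G) p hd
  simpa using S.pp (g := g) (v := 1) hp (by rw [pow_one, hg])

/-- A divisor of an element order all of whose primes lie in one class divides the maximal order. -/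
theorem class_part (S : Shape m G) {g : G} {n : ℕ} {i : Fin 4} (hn : n ≠ 0) (hd : n ∣ orderOf g)
    (h : ∀ p : ℕ, p.Prime → p ∣ n → p ∣ tor m i) : n ∣ tor m i := by
  rw [Nat.dvd_iff_prime_pow_dvd_dvd]
  intro p v hp hpv
  rcases Nat.eq_zero_or_pos v with rfl | hv
  · simp
  obtain ⟨j, hj⟩ := S.pp hp (hpv.trans hd)
  rwa [class_unique S.hm hp (h p hp ((dvd_pow_self p hv.ne').trans hpv)) ((dvd_pow_self p hv.ne').trans hj)]

/-- No element order is divisible by primes from three classes. -/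
theorem triple (S : Shape m G) {g : G} {p q r : ℕ} (hp : p.Prime) (hq : q.Prime) (hr : r.Prime) {i j l : Fin 4}
    (hi : p ∣ tor m i) (hj : q ∣ tor m j) (hl : r ∣ tor m l) (hij : i ≠ j) (hjl : j ≠ l) (hil : i ≠ l)
    (hdp : p ∣ orderOf g) (hdq : q ∣ orderOf g) (hdr : r ∣ orderOf g) : False := by
  obtain ⟨a, b, hab⟩ := S.shape g
  have key : ∀ {s : ℕ} {n : Fin 4}, s.Prime → s ∣ tor m n → s ∣ orderOf g → n = a ∨ n = b := by
    intro s n hs hn hd
    rcases (hs.dvd_mul.1 ((hd.trans hab).trans (Nat.lcm_dvd_mul _ _))) with h | h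
    · exact Or.inl (class_unique S.hm hs hn h)
    · exact Or.inr (class_unique S.hm hs hn h)
  rcases key hp hi hdp with rfl | rfl <;> rcases key hq hj hdq with rfl | rfl <;>
    rcases key hr hl hdr with rfl | rfl <;> simp_all

theorem triple_commute (S : Shape m G) {x y z : G} {p q r : ℕ} (hp : p.Prime) (hq : q.Prime) (hr : r.Prime)
    {i j l : Fin 4} (hi : p ∣ tor m i) (hj : q ∣ tor m j) (hl : r ∣ tor m l) (hij : i ≠ j) (hjl : j ≠ l)
    (hil : i ≠ l) (hx : p ∣ orderOf x) (hy : q ∣ orderOf y) (hz : r ∣ orderOf z) (hxy : Commute x y)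
    (hxz : Commute x z) (hyz : Commute y z) (hox : 0 < orderOf x) (hoy : 0 < orderOf y) (hoz : 0 < orderOf z) :
    False := by
  have nepq : p ≠ q := fun e => hij (class_unique S.hm hp hi (e ▸ hj))
  have nepr : p ≠ r := fun e => hil (class_unique S.hm hp hi (e ▸ hl))
  have neqr : q ≠ r := fun e => hjl (class_unique S.hm hq hj (e ▸ hl))
  set a := x ^ (orderOf x / p)
  set b := y ^ (orderOf y / q)
  set c := z ^ (orderOf z / r)
  have ea : orderOf a = p := orderOf_pow_orderOf_div hox.ne' hx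
  have eb : orderOf b = q := orderOf_pow_orderOf_div hoy.ne' hy
  have ec : orderOf c = r := orderOf_pow_orderOf_div hoz.ne' hz
  have cab : Commute a b := hxy.pow_pow _ _
  have e1 : orderOf (a * b) = p * q := by
    rw [cab.orderOf_mul_eq_mul_orderOf_of_coprime (by rw [ea, eb]; exact (Nat.coprime_primes hp hq).2 nepq), ea, eb]
  have cc : Commute (a * b) c := (hxz.pow_pow _ _).mul_left (hyz.pow_pow _ _)
  have e2 : orderOf (a * b * c) = p * q * r := by
    rw [cc.orderOf_mul_eq_mul_orderOf_of_coprime (by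
      rw [e1, ec]
      exact Nat.Coprime.mul_left ((Nat.coprime_primes hp hr).2 nepr) ((Nat.coprime_primes hq hr).2 neqr)), e1, ec]
  exact S.triple (g := a * b * c) hp hq hr hi hj hl hij hjl hil (e2 ▸ Dvd.intro (q * r) (by ring))
    (e2 ▸ Dvd.intro (p * r) (by ring)) (e2 ▸ dvd_mul_left r _)

theorem not_eight (S : Shape m G) (g : G) : ¬ 8 ∣ orderOf g := fun h => by
  have h8 : (8 : ℕ) = 2 ^ 3 := rfl
  obtain ⟨i, hi⟩ := S.pp Nat.prime_two (h8 ▸ h)
  have := two_class S.hm ((dvd_pow_self 2 (by norm_num : (3 : ℕ) ≠ 0)).trans hi)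
  subst this
  exact absurd (Nat.le_of_dvd (by norm_num) (show (2 : ℕ) ^ 3 ∣ 4 from hi)) (by norm_num)

/-- The norm of an element of maximal order is trivial on a group whose primes lie in the same class. -/
theorem norm_one (S : Shape m G) [Finite G] {W : Subgroup G} {i : Fin 4}
    (hW : ∀ p : ℕ, p.Prime → p ∣ Nat.card W → p ∣ tor m i) {y v : G} (hy : y ∈ normalizer (W : Set G))
    (hyo : orderOf y ∣ tor m i) (hv : v ∈ W) : (v * y) ^ tor m i = 1 := by
  set c := tor m i
  have hyc : y ^ c = 1 := orderOf_dvd_iff_pow_eq_one.1 hyo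
  have hmem : (v * y) ^ c ∈ W := by
    have : ∀ n : ℕ, (v * y) ^ n * (y ^ n)⁻¹ ∈ W := by
      intro n
      induction n with
      | zero => simp
      | succ n ih =>
        rw [pow_succ (v * y), pow_succ y, show (v * y) ^ n * (v * y) * (y ^ n * y)⁻¹ =
          ((v * y) ^ n * (y ^ n)⁻¹) * (y ^ n * v * (y ^ n)⁻¹) by group]
        exact W.mul_mem ih ((mem_normalizer_iff.1 (pow_mem hy n) v).1 hv)
    have h := this c
    rwa [hyc, inv_one, mul_one] at h
  refine orderOf_dvd_iff_pow_eq_one.1 (S.class_part (orderOf_pos _).ne' dvd_rfl fun p hp hd => ?_)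
  have h1 : orderOf (v * y) ∣ c * Nat.card W := by
    refine orderOf_dvd_of_pow_eq_one ?_
    rw [pow_mul]
    exact orderOf_dvd_iff_pow_eq_one.1 (Subgroup.orderOf_dvd_natCard W hmem)
  rcases hp.dvd_mul.1 (hd.trans h1) with h | h
  · exact h
  · exact hW p hp h

/-- Elements of maximal order lift exactly. -/
theorem exact_lift (S : Shape m G) [Finite G] {T : Type v} [Group T] (ψ : G →* T) {x : G} {i : Fin 4}
    (hx : orderOf (ψ x) = tor m i) : ∃ y ∈ zpowers x, ψ y = ψ x ∧ orderOf y = tor m i := by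
  set n := tor m i
  obtain ⟨k, hk⟩ : n ∣ orderOf x := hx ▸ orderOf_map_dvd ψ x
  have hn : 1 < n := tor_gt_one S.hm i
  have hcop : Nat.Coprime k n := by
    refine Nat.coprime_of_dvd fun p hp hpk hpn => ?_
    have h1 : p ^ (n.factorization p + 1) ∣ orderOf x := by
      rw [hk, pow_succ]
      exact Nat.mul_dvd_mul (Nat.ordProj_dvd n p) hpk
    obtain ⟨j, hj⟩ := S.pp hp h1
    rw [← class_unique S.hm hp hpn ((dvd_pow_self p (Nat.succ_ne_zero _)).trans hj)] at hj
    exact Nat.pow_succ_factorization_not_dvd (by omega) hp hj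
  obtain ⟨a, -, ha⟩ := Nat.exists_mul_mod_eq_one_of_coprime hcop hn
  refine ⟨x ^ (k * a), pow_mem (mem_zpowers x) _, ?_, ?_⟩
  · rw [map_pow, ← pow_mod_orderOf, hx, ha, pow_one]
  · have hkpos : k ≠ 0 := fun e => (orderOf_pos x).ne' (by rw [hk, e, mul_zero])
    have e1 : orderOf (x ^ k) = n := by
      rw [orderOf_pow_of_dvd hkpos (hk ▸ dvd_mul_left k n), hk, Nat.mul_div_cancel _ (Nat.pos_of_ne_zero hkpos)]
    have hca : Nat.Coprime a n := Nat.coprime_of_dvd fun p hp hpa hpn => by
      have h1 : p ∣ k * a % n := (Nat.dvd_mod_iff hpn).2 (hpa.mul_left k)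
      rw [ha] at h1
      exact hp.one_lt.ne' (Nat.dvd_one.1 h1)
    rw [pow_mul, orderOf_pow, e1, Nat.gcd_comm, hca.gcd_eq_one, Nat.div_one]

/-- No solvable subgroup contains commuting pairs for all pairs of four representatives of the classes. -/
theorem no_four (S : Shape m G) [Finite G] (K : Subgroup G) [Group.IsSolvable K] (p : Fin 4 → ℕ)
    (hp : ∀ i, (p i).Prime) (hd : ∀ i, p i ∣ tor m i)
    (hpair : ∀ i j, i < j → ∃ x ∈ K, ∃ y ∈ K, orderOf x = p i ∧ orderOf y = p j ∧ Commute x y) : False := by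
  classical
  have hinj : Function.Injective p := fun i j e => class_unique S.hm (hp i) (hd i) (e ▸ hd j)
  refine Cfsg.Lib.FourPrimes.not_isSolvable (G := K) (Finset.univ.image p) ?_ ?_ ?_ ?_ inferInstance
  · rw [Finset.card_image_of_injective _ hinj]; simp
  · simp only [Finset.mem_image, Finset.mem_univ, true_and]
    rintro _ ⟨i, rfl⟩
    exact hp i
  · simp only [Finset.mem_image, Finset.mem_univ, true_and]
    rintro _ ⟨i, rfl⟩ _ ⟨j, rfl⟩ hne
    have hij : i ≠ j := fun e => hne (e ▸ rfl)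
    have build : ∀ {x y : G} {a b : Fin 4}, x ∈ K → y ∈ K → orderOf x = p a → orderOf y = p b → a ≠ b →
        Commute x y → ∃ g : K, orderOf g = p a * p b := by
      intro x y a b hx hy ha hb hab hc
      refine ⟨⟨x * y, K.mul_mem hx hy⟩, ?_⟩
      rw [Subgroup.orderOf_mk, hc.orderOf_mul_eq_mul_orderOf_of_coprime
        (by rw [ha, hb]; exact (Nat.coprime_primes (hp a) (hp b)).2 fun e => hab (hinj e)), ha, hb]
    rcases lt_or_gt_of_ne hij with h | h
    · obtain ⟨x, hx, y, hy, ox, oy, hc⟩ := hpair i j h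
      exact build hx hy ox oy hij hc
    · obtain ⟨x, hx, y, hy, ox, oy, hc⟩ := hpair j i h
      exact build hy hx oy ox hij hc.symm
  · simp only [Finset.mem_image, Finset.mem_univ, true_and]
    rintro _ ⟨i, rfl⟩ _ ⟨j, rfl⟩ _ ⟨l, rfl⟩ h1 h2 h3 g hg
    exact (S.subgroup K).triple (g := g) (hp i) (hp j) (hp l) (hd i) (hd j) (hd l) (fun e => h1 (e ▸ rfl))
      (fun e => h2 (e ▸ rfl)) (fun e => h3 (e ▸ rfl)) (hg ▸ Dvd.intro (p j * p l) (by ring))
      (hg ▸ Dvd.intro (p i * p l) (by ring)) (hg ▸ dvd_mul_left _ _)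

end Shape

end Cfsg.Lib.SuzSquare
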