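import Mathlib
import Cfsg.Agent.SuzSquare.Spec

/-!
Pairs of classes that die in a solvable quotient piece.
-/

set_option autoImplicit false
set_option linter.unusedSectionVars false

namespace Cfsg.Lib.SuzSquare

open Subgroup

universe u

variable {m : ℕ} {G : Type u} [Group G] [Finite G]

theorem dvd_pow_of_rep {g : G} {p v c : ℕ} (hp : p.Prime) (hd : p ^ v ∣ orderOf g) (hc : ¬ p ^ v ∣ c) :
    p ∣ orderOf (g ^ c) := by
  by_contra h
  refine hc ?_
  have h1 : orderOf g ∣ c * orderOf (g ^ c) := orderOf_dvd_of_pow_eq_one (by rw [pow_mul, pow_orderOf_eq_one])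
  exact (Nat.Coprime.pow_left v (hp.coprime_iff_not_dvd.2 h)).dvd_of_dvd_mul_right (hd.trans h1)

/-- If a power with exponent prime to the maximal orders brings every element into a two-group over a solvable
normal subgroup, some solvable subgroup has all pairs of classes. -/
theorem foreign (S : Shape m G) (hord : ∀ i j : Fin 4, ∃ g : G, tor m i ∣ orderOf g ∧ tor m j ∣ orderOf g)
    (R : Subgroup G) [R.Normal] [Group.IsSolvable R] (c : ℕ) (hdiv : ∀ i, ¬ tor m i ∣ c)
    (himg : ∀ g : G, ∃ n, ((g : G ⧸ R) ^ c) ^ 2 ^ n = 1) : False := by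
  classical
  haveI : Fact (Nat.Prime 2) := ⟨Nat.prime_two⟩
  obtain ⟨Q⟩ := (inferInstance : Nonempty (Sylow 2 (G ⧸ R)))
  set K := (Q : Subgroup (G ⧸ R)).comap (QuotientGroup.mk' R) with hK
  haveI : Group.IsSolvable K := by
    have hRK : R ≤ K := fun r hr => by
      show QuotientGroup.mk' R r ∈ (Q : Subgroup (G ⧸ R))
      rw [(QuotientGroup.eq_one_iff r).2 hr |> fun h => (h : QuotientGroup.mk' R r = 1)]
      exact one_mem _
    haveI := Q.isPGroup'.isNilpotent
    refine Group.isSolvable_of_ker_le_range (inclusion hRK)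
      (((QuotientGroup.mk' R).comp K.subtype).codRestrict (Q : Subgroup (G ⧸ R)) fun x => x.2) fun x hx => ?_
    have h1 : QuotientGroup.mk' R (x : G) = 1 := congrArg Subtype.val (MonoidHom.mem_ker.1 hx)
    exact ⟨⟨x, (QuotientGroup.eq_one_iff (x : G)).1 h1⟩, rfl⟩
  choose p v hp hv hpd hpc using fun i => exists_rep (Nat.zero_lt_of_lt (tor_gt_one S.hm i)).ne' (hdiv i)
  refine S.no_four K p hp (fun i => (dvd_pow_self _ (Nat.one_le_iff_ne_zero.1 (hv i))).trans (hpd i)) fun i j hij => ?_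
  obtain ⟨g, hgi, hgj⟩ := hord i j
  obtain ⟨n, hn⟩ := himg g
  set y := g ^ c with hy
  have hpy : IsPGroup 2 (zpowers (QuotientGroup.mk' R y)) := by
    obtain ⟨k, -, hk⟩ := (Nat.dvd_prime_pow Nat.prime_two).1 (orderOf_dvd_of_pow_eq_one
      (show (QuotientGroup.mk' R y) ^ 2 ^ n = 1 by rw [hy, map_pow]; exact hn))
    exact IsPGroup.of_card (n := k) (by rw [Nat.card_zpowers, hk])
  obtain ⟨P, hP⟩ := hpy.exists_le_sylow
  obtain ⟨a, ha⟩ := MulAction.exists_smul_eq (G ⧸ R) P Q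
  obtain ⟨d, rfl⟩ := QuotientGroup.mk'_surjective R a
  have hmem : d * y * d⁻¹ ∈ K := by
    show QuotientGroup.mk' R (d * y * d⁻¹) ∈ (Q : Subgroup (G ⧸ R))
    rw [← ha, map_mul, map_mul, map_inv, Sylow.coe_subgroup_smul]
    exact Subgroup.smul_mem_pointwise_smul _ _ _ (hP (mem_zpowers _))
  set y' := d * y * d⁻¹ with hy'
  have ho : orderOf y' = orderOf y := by
    rw [hy', show d * y * d⁻¹ = MulAut.conj d y by simp, MulEquiv.orderOf_eq]
  have hpi : p i ∣ orderOf y' := ho ▸ dvd_pow_of_rep (hp i) ((hpd i).trans hgi) (hpc i)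
  have hpj : p j ∣ orderOf y' := ho ▸ dvd_pow_of_rep (hp j) ((hpd j).trans hgj) (hpc j)
  exact ⟨_, pow_mem hmem _, _, pow_mem hmem _, orderOf_pow_orderOf_div (orderOf_pos y').ne' hpi,
    orderOf_pow_orderOf_div (orderOf_pos y').ne' hpj, (Commute.refl y').pow_pow _ _⟩

end Cfsg.Lib.SuzSquare
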