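import Mathlib
import Cfsg.Agent.SuzSquare.Arith
import Cfsg.Agent.Suz.Partition
import Cfsg.Agent.Suz.SolubBase
import Cfsg.Agent.Suz.Aut
import Cfsg.Agent.Suz.Simple

/-!
The facts about one Suzuki group used for the recognition of its square.
-/

set_option autoImplicit false
set_option linter.unusedSectionVars false

namespace Cfsg.Lib.SuzSquare

open Subgroup Cfsg.Lib.Suz

universe u

/-- A Frobenius configuration: `x` of order dividing `c` normalises `U`, the centralisers of the nontrivial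
elements of `U` lie in `P` and no nontrivial power of `x` lies in `P`. -/
structure Fp {T : Type*} [Group T] (U P : Subgroup T) (x : T) (c : ℕ) : Prop where
  le : U ≤ P
  cent : ∀ a ∈ U, a ≠ 1 → ∀ y : T, Commute y a → y ∈ P
  conj : ∀ a ∈ U, x * a * x⁻¹ ∈ U
  out : ∀ i : ℕ, 0 < i → i < c → x ^ i ∉ P
  pow : x ^ c = 1
  lt : 1 < c

namespace Fp

variable {T : Type*} [Group T] {U P : Subgroup T} {x : T} {c : ℕ}

theorem coset (h : Fp U P x c) {a : T} (ha : a ∈ U) (i : ℕ) : (a * x) ^ i * (x ^ i)⁻¹ ∈ U := by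
  induction i with
  | zero => simp
  | succ n ih =>
    rw [pow_succ' (a * x) n, pow_succ' x n,
      show a * x * (a * x) ^ n * (x * x ^ n)⁻¹ = a * (x * ((a * x) ^ n * (x ^ n)⁻¹) * x⁻¹) by group]
    exact U.mul_mem ha (h.conj _ ih)

theorem coset_pow (h : Fp U P x c) {a : T} (ha : a ∈ U) : (a * x) ^ c = 1 := by
  by_contra hne
  have h1 : (a * x) ^ c ∈ U := by
    have := h.coset ha c
    rwa [h.pow, inv_one, mul_one] at this
  have h2 := h.cent _ h1 hne (a * x) (Commute.self_pow _ _)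
  have h3 : x ^ 1 ∈ P := by
    rw [pow_one]
    simpa using P.mul_mem (P.inv_mem (h.le ha)) h2
  exact h.out 1 one_pos h.lt h3

theorem injective (h : Fp U P x c) {i : ℕ} (hi : 0 < i) (hic : i < c) {a b : T} (ha : a ∈ U) (hb : b ∈ U)
    (e : (a * x) ^ i = (b * x) ^ i) : a = b := by
  by_contra hne
  have hab : a * b⁻¹ ∈ U := U.mul_mem ha (U.inv_mem hb)
  have hc : Commute ((a * x) ^ i) (a * b⁻¹) := by
    rw [show a * b⁻¹ = (a * x) * (b * x)⁻¹ by group]
    exact (Commute.pow_self _ i).mul_right ((e ▸ Commute.pow_self (b * x) i).inv_right)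
  have hP := h.cent _ hab (fun e' => hne (mul_inv_eq_one.1 e')) _ hc
  refine h.out i hi hic ?_
  have h4 := P.mul_mem (P.inv_mem (h.le (h.coset ha i))) hP
  simpa [mul_assoc] using h4

end Fp

variable {F : Type u} [Field F] [Fintype F] {k : ℕ} (Q : Par F k)

local notation "SS" => Cfsg.Sz F k

include Q

theorem order_dvd (g : SS) : ∃ i : Fin 4, orderOf g ∣ tor k i := by
  rcases eq_or_ne g 1 with rfl | hg
  · exact ⟨0, by simp⟩
  rcases cent_cases Q hg with ⟨-, c, hc⟩ | ⟨-, hmem⟩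
  · refine ⟨0, orderOf_dvd_of_pow_eq_one ?_⟩
    obtain ⟨a, b, e⟩ := exists_uu Q hc
    have h4 : (c * g * c⁻¹) ^ 4 = 1 := by rw [e]; exact uu_four Q a b
    rwa [conj_pow, mul_inv_eq_one, mul_eq_left] at h4
  · have hd : orderOf g ∣ Nat.card (Cfsg.Lib.Suz.tor g) := Subgroup.orderOf_dvd_natCard _ (mem_tor.2 (Commute.refl g))
    rcases hmem with h | h | h <;> rw [h] at hd
    · exact ⟨1, hd⟩
    · exact ⟨2, hd⟩
    · exact ⟨3, hd⟩

theorem pow_expo (g : SS) : g ^ expo k = 1 := by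
  obtain ⟨i, hi⟩ := order_dvd Q g
  rw [← orderOf_dvd_iff_pow_eq_one]
  refine hi.trans ?_
  fin_cases i
  · exact Dvd.dvd.mul_right (dvd_mul_right 4 _) _
  · exact Dvd.dvd.mul_right (dvd_mul_left (tor k 1) 4) _
  · exact (Dvd.intro _ (tor_mul Q.hm)).trans (dvd_mul_left _ _)
  · exact (Dvd.intro_left _ (tor_mul Q.hm)).trans (dvd_mul_left _ _)

theorem uu_zero_mem (b : F) : uu Q 0 b ∈ uSub Q := uu_mem Q 0 b

/-- The central subgroup of the Sylow two-subgroup. -/
def zSub : Subgroup SS where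
  carrier := {g | ∃ b, g = uu Q 0 b}
  one_mem' := ⟨0, (uu_zero Q).symm⟩
  mul_mem' := fun ⟨a, e⟩ ⟨b, e'⟩ =>
    ⟨a + b, by rw [e, e', uu_mul]; simp [zero_pow (pow_ne_zero (k + 1) two_ne_zero)]⟩
  inv_mem' := fun ⟨a, e⟩ => ⟨a, inv_eq_of_mul_eq_one_right (by
    rw [e, uu_mul]; simp [zero_pow (pow_ne_zero (k + 1) two_ne_zero), add_self Q, uu_zero])⟩

theorem zSub_le : zSub Q ≤ uSub Q := fun _ ⟨b, e⟩ => e ▸ uu_mem Q 0 b

theorem zSub_comm {a g : SS} (ha : a ∈ zSub Q) (hg : g ∈ uSub Q) : Commute a g := by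
  obtain ⟨b, rfl⟩ := ha
  obtain ⟨c, d, rfl⟩ := exists_uu Q hg
  show _ = _
  rw [uu_mul, uu_mul]
  simp [zero_pow (pow_ne_zero (k + 1) two_ne_zero), add_comm]

theorem zSub_square {a : SS} (ha : a ∈ zSub Q) : ∃ y ∈ uSub Q, y ^ 2 = a := by
  obtain ⟨b, rfl⟩ := ha
  rcases eq_or_ne b 0 with rfl | hb
  · exact ⟨1, one_mem _, by rw [one_pow, uu_zero]⟩
  obtain ⟨l, hl⟩ := exists_s1_root Q (Units.mk0 b hb)
  exact ⟨uu Q l 0, uu_mem Q _ _, by rw [uu_sq, ← Units.val_pow_eq_pow_val, hl]; rfl⟩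

theorem hI_pow_mem {l : Fˣ} {i : ℕ} (h : hI Q l ^ i ∈ uSub Q) : l ^ i = 1 := by
  have e : hI Q l ^ i = hI Q (l ^ i) := (map_pow (hHom Q) l i).symm
  rw [e] at h
  obtain ⟨a, b, hab⟩ := exists_uu Q h
  by_contra hne
  have hc : Commute (uu Q a b) (hI Q (l ^ i)) := hab ▸ Commute.refl _
  obtain ⟨l', hl'⟩ := cent_hI Q hne hc
  have h4 : hI Q (l ^ i) ^ 4 = 1 := by rw [hab]; exact uu_four Q a b
  have h4' : hHom Q ((l ^ i) ^ 4) = hHom Q 1 := by rw [map_pow, map_one]; exact h4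
  have h5 := hHom_injective Q h4'
  have hq : (l ^ i) ^ tor k 1 = 1 := by
    classical
    rw [show tor k 1 = Fintype.card F - 1 by rw [Q.hF]; rfl, ← Fintype.card_units]
    exact pow_card_eq_one
  exact hne (orderOf_eq_one_iff.1 (Nat.eq_one_of_dvd_coprimes (tor_coprime Q.hm (show (0 : Fin 4) ≠ 1 by decide))
    (orderOf_dvd_of_pow_eq_one h5) (orderOf_dvd_of_pow_eq_one hq)))

theorem exists_generator : ∃ l : Fˣ, orderOf l = tor k 1 := by
  obtain ⟨l, hl⟩ := IsCyclic.exists_ofOrder_eq_natCard (α := Fˣ)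
  refine ⟨l, ?_⟩
  rw [hl, Nat.card_units, Nat.card_eq_fintype_card, Q.hF]
  rfl

/-- The Borel subgroup as a Frobenius configuration, for any subgroup of the Sylow subgroup invariant under
the torus. -/
theorem fp_borel {U : Subgroup SS} (hU : U ≤ uSub Q) (hinv : ∀ (l : Fˣ), ∀ a ∈ U, hI Q l * a * (hI Q l)⁻¹ ∈ U) :
    ∃ h : SS, orderOf h = tor k 1 ∧ Fp U (uSub Q) h (tor k 1) := by
  obtain ⟨l, hl⟩ := exists_generator Q
  have ho : orderOf (hI Q l) = tor k 1 := by
    rw [← hl]; exact orderOf_injective (hHom Q) (hHom_injective Q) l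
  refine ⟨_, ho, ⟨hU, fun a ha h1 y hy => cent_uu Q (hU ha) h1 hy, hinv l, fun i hi hic hmem => ?_,
    ho ▸ pow_orderOf_eq_one _, tor_gt_one Q.hm 1⟩⟩
  have := Nat.le_of_dvd hi (hl ▸ orderOf_dvd_of_pow_eq_one (hI_pow_mem Q hmem))
  omega

theorem hI_conj_uSub (l : Fˣ) {a : SS} (ha : a ∈ uSub Q) : hI Q l * a * (hI Q l)⁻¹ ∈ uSub Q :=
  conj_of_fix Q (H_inf k l) ha

theorem hI_conj_zSub (l : Fˣ) {a : SS} (ha : a ∈ zSub Q) : hI Q l * a * (hI Q l)⁻¹ ∈ zSub Q := by
  obtain ⟨b, rfl⟩ := ha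
  exact ⟨_, by rw [hI_conj, mul_zero]⟩

theorem fp_full : ∃ h : SS, orderOf h = tor k 1 ∧ Fp (uSub Q) (uSub Q) h (tor k 1) :=
  fp_borel Q le_rfl fun l _ ha => hI_conj_uSub Q l ha

theorem fp_zSub : ∃ h : SS, orderOf h = tor k 1 ∧ Fp (zSub Q) (uSub Q) h (tor k 1) :=
  fp_borel Q (zSub_le Q) fun l _ ha => hI_conj_zSub Q l ha

theorem zSub_nontrivial : ∃ a ∈ zSub Q, a ≠ 1 :=
  ⟨uu Q 0 1, ⟨1, rfl⟩, fun e => one_ne_zero (uu_inj Q (e.trans (uu_zero Q).symm)).2⟩

/-- The tori as Frobenius configurations. -/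
theorem fp_torus {i : Fin 4} (hi : i = 2 ∨ i = 3) :
    ∃ (U : Subgroup SS) (u x : SS), zpowers u = U ∧ orderOf u = tor k i ∧ orderOf x = 4 ∧ Fp U U x 4 := by
  have hk : tor k i ∈ ({2 ^ (2 * k + 1) + 2 ^ (k + 1) + 1, 2 ^ (2 * k + 1) - 2 ^ (k + 1) + 1} : Set ℕ) := by
    rcases hi with rfl | rfl
    · exact Or.inl rfl
    · exact Or.inr rfl
  obtain ⟨U, hcy, hcard, hcent, hnor⟩ := tori Q _ hk
  obtain ⟨u, hu⟩ := (Subgroup.isCyclic_iff_exists_zpowers_eq_top U).1 hcy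
  haveI : Fact (Nat.Prime 2) := ⟨Nat.prime_two⟩
  obtain ⟨S, hS⟩ : ∃ S : Subgroup (normalizer (U : Set SS)), Nat.card S = 2 ^ 2 :=
    Sylow.exists_subgroup_card_pow_prime 2 (by rw [hnor]; exact dvd_mul_right (2 ^ 2) _)
  have hodd : tor k i % 2 = 1 := tor_odd Q.hm (by rcases hi with rfl | rfl <;> decide)
  have hUodd : ∀ a : SS, a ∈ U → orderOf a ∣ 4 → a = 1 := fun a ha h4 =>
    orderOf_eq_one_iff.1 (Nat.eq_one_of_dvd_coprimes (coprime_four hodd) h4
      (hcard ▸ Subgroup.orderOf_dvd_natCard U ha))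
  have hSout : ∀ s ∈ S, (s : SS) ∈ U → s = 1 := fun s hs hsU => Subtype.ext (hUodd _ hsU (by
    rw [Subgroup.orderOf_coe]
    exact (Subgroup.orderOf_dvd_natCard S hs).trans (hS.symm ▸ dvd_refl 4)))
  by_cases hex : ∃ s ∈ S, orderOf s = 4
  · obtain ⟨s, hs, ho⟩ := hex
    refine ⟨U, u, s, hu, ?_, by rw [Subgroup.orderOf_coe]; exact ho, ⟨le_rfl, fun a ha h1 y hy => ?_, fun a ha =>
      (mem_normalizer_iff.1 s.2 a).1 ha, fun j hj hj4 hmem => ?_, ?_, by norm_num⟩⟩
    · rw [← Nat.card_zpowers, hu, hcard]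
    · rw [← hcent a ha h1]
      exact mem_centralizer_singleton_iff.2 hy.eq
    · have h := hSout _ (pow_mem hs j) (by simpa using hmem)
      have := Nat.le_of_dvd hj (ho ▸ orderOf_dvd_of_pow_eq_one h)
      omega
    · have h := pow_orderOf_eq_one (s : SS)
      rwa [Subgroup.orderOf_coe, ho] at h
  · exfalso
    push Not at hex
    have hsq : ∀ s ∈ S, s ≠ 1 → orderOf s = 2 := fun s hs h1 => by
      have hd : orderOf s ∣ 2 ^ 2 := hS ▸ Subgroup.orderOf_dvd_natCard S hs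
      obtain ⟨j, hj, e⟩ := (Nat.dvd_prime_pow Nat.prime_two).1 hd
      interval_cases j
      · exact absurd (orderOf_eq_one_iff.1 e) h1
      · exact e
      · exact absurd e (hex s hs)
    -- each involution of `S` inverts the cyclic group
    have hinv : ∀ s ∈ S, s ≠ 1 → ∀ a ∈ U, (s : SS) * a * (s : SS)⁻¹ = a⁻¹ := by
      intro s hs h1 a ha
      set b := a * ((s : SS) * a * (s : SS)⁻¹) with hb
      have hsaU := (mem_normalizer_iff.1 s.2 a).1 ha
      have hbU : b ∈ U := U.mul_mem ha hsaU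
      have hsi : (s : SS)⁻¹ = s := inv_eq_of_mul_eq_one_right (by
        rw [← pow_two]
        have := pow_orderOf_eq_one s
        rw [hsq s hs h1] at this
        exact congrArg Subtype.val this)
      have hcomm : a * ((s : SS) * a * (s : SS)⁻¹) = (s : SS) * a * (s : SS)⁻¹ * a := by
        let := hcy.commGroup
        exact congrArg Subtype.val (mul_comm (⟨a, ha⟩ : U) ⟨_, hsaU⟩)
      have hsb : Commute (s : SS) b := by
        show _ = _
        rw [hb, hsi]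
        rw [hsi] at hcomm
        calc (s : SS) * (a * ((s : SS) * a * s)) = ((s : SS) * a * s) * a * s := by simp [mul_assoc]
          _ = a * ((s : SS) * a * s) * s := by rw [hcomm]
      have hb1 : b = 1 := by
        by_contra hb1
        refine h1 (hSout s hs ?_)
        exact (SetLike.ext_iff.1 (hcent b hbU hb1) _).1 (mem_centralizer_singleton_iff.2 hsb.eq)
      exact eq_inv_of_mul_eq_one_right hb1
    haveI : Nontrivial S := (Finite.one_lt_card_iff_nontrivial).1 (by rw [hS]; norm_num)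
    obtain ⟨⟨s, hs⟩, hs1⟩ := exists_ne (1 : S)
    have hs1' : s ≠ 1 := fun e => hs1 (Subtype.ext e)
    obtain ⟨t, htS, ht1, hts⟩ : ∃ t ∈ S, t ≠ 1 ∧ t ≠ s := by
      by_contra hno
      push Not at hno
      have : Nat.card S ≤ 2 := by
        rw [show Nat.card S = (S : Set (normalizer (U : Set SS))).ncard from Nat.card_coe_set_eq _]
        refine le_trans (Set.ncard_le_ncard (t := ({1, s} : Set (normalizer (U : Set SS)))) fun z hz => ?_)
          ((Set.ncard_insert_le _ _).trans (by rw [Set.ncard_singleton]))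
        rcases eq_or_ne z 1 with e | e
        · exact Or.inl e
        · exact Or.inr (hno z hz e)
      rw [hS] at this
      norm_num at this
    have hu1 : u ≠ 1 := fun e => by
      have : tor k i = 1 := by rw [← hcard, ← hu, Nat.card_zpowers, e, orderOf_one]
      have := tor_gt_one Q.hm i
      omega
    have huU : u ∈ U := hu ▸ mem_zpowers u
    have hst : s * t ≠ 1 := fun e => hts (by
      have h2 : s * s = 1 := by rw [← pow_two, ← hsq s hs hs1']; exact pow_orderOf_eq_one s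
      exact mul_left_cancel (e.trans h2.symm))
    have e1 := hinv _ (mul_mem hs htS) hst u huU
    have e2 : ((s * t : normalizer (U : Set SS)) : SS) * u * ((s * t : normalizer (U : Set SS)) : SS)⁻¹ = u := by
      rw [Subgroup.coe_mul, mul_inv_rev, show (s : SS) * (t : SS) * u * ((t : SS)⁻¹ * (s : SS)⁻¹) =
        (s : SS) * ((t : SS) * u * (t : SS)⁻¹) * (s : SS)⁻¹ by group, hinv t htS ht1 u huU, ← conj_inv,
        hinv s hs hs1' u huU, inv_inv]
    rw [e2] at e1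
    exact hu1 (orderOf_eq_one_iff.1 (Nat.eq_one_of_dvd_coprimes (coprime_four hodd)
      ((orderOf_dvd_of_pow_eq_one (n := 2) (by rw [pow_two]; nth_rw 2 [e1]; exact mul_inv_cancel u)).trans (by norm_num))
      (hcard ▸ Subgroup.orderOf_dvd_natCard U huU)))

/-- Every maximal order occurs. -/
theorem order_exists (i : Fin 4) : ∃ g : SS, orderOf g = tor k i := by
  fin_cases i
  · obtain ⟨U, u, x, -, -, hx, -⟩ := fp_torus Q (i := 2) (Or.inl rfl)
    exact ⟨x, hx⟩
  · obtain ⟨h, hh, -⟩ := fp_full Q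
    exact ⟨h, hh⟩
  · obtain ⟨U, u, x, -, hu, -, -⟩ := fp_torus Q (i := 2) (Or.inl rfl)
    exact ⟨u, hu⟩
  · obtain ⟨U, u, x, -, hu, -, -⟩ := fp_torus Q (i := 3) (Or.inr rfl)
    exact ⟨u, hu⟩

/-- The element of order five with entries in the prime field. -/
theorem five_fixed :
    ∃ b : SS, orderOf b = 5 ∧ ∀ σ : F ≃+* F, fld Q σ b = b := by
  haveI := charP Q
  haveI : Fact (Nat.Prime 5) := ⟨by norm_num⟩
  refine ⟨wS Q * uu Q 0 1, ?_, fun σ => ?_⟩
  · let M : Matrix (Fin 4) (Fin 4) (ZMod 2) := !![0, 0, 0, 1; 0, 0, 1, 0; 0, 1, 0, 1; 1, 0, 1, 1]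
    have hM : ((wS Q * uu Q 0 1 : SS).1 : Matrix (Fin 4) (Fin 4) F) = (ZMod.castHom dvd_rfl F).mapMatrix M := by
      show (W F).1 * Tmat k 0 1 = _
      ext i j
      fin_cases i <;> fin_cases j <;>
        simp [Matrix.mul_apply, Fin.sum_univ_four, W, Tmat, fn, M, RingHom.mapMatrix_apply]
    refine orderOf_eq_prime ?_ fun e => ?_
    · refine Subtype.ext (Subtype.ext ?_)
      show (((wS Q * uu Q 0 1 : SS).1 : Matrix (Fin 4) (Fin 4) F)) ^ 5 = 1
      rw [hM, ← map_pow, show M ^ 5 = 1 by decide +kernel, map_one]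
    · have h := congrArg (fun z : SS => (z.1 : Matrix (Fin 4) (Fin 4) F) 0 3) e
      simp only [hM] at h
      simp [M, RingHom.mapMatrix_apply] at h
  · rw [map_mul, fld_wS, fld_uu, map_zero, map_one]

end Cfsg.Lib.SuzSquare
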