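import Mathlib
import Cfsg.Agent.SuzSquare.Spec
import Cfsg.Agent.SuzSquare.T
import Cfsg.Agent.SuzSquare.Socle

/-!
The square of a Suzuki group has no outer automorphisms preserving the shape of the spectrum.
-/

set_option autoImplicit false
set_option linter.unusedSectionVars false

namespace Cfsg.Lib.SuzSquare

open Subgroup Cfsg.Lib.Suz

universe u v w

theorem exists_fixed {F : Type v} [Field F] [Fintype F] {k : ℕ} (Q : Par F k) (σ : F ≃+* F) {l : ℕ} (hl : l.Prime)
    (h : σ ^ l = 1) (hne : l ≠ 2 * k + 1) : ∃ z : Fˣ, z ≠ 1 ∧ σ (z : F) = z := by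
  classical
  by_contra hno
  push Not at hno
  haveI : Finite (F ≃+* F) := Finite.of_injective _ DFunLike.coe_injective
  set X := zpowers σ
  haveI : Fintype X := Fintype.ofFinite X
  let E := FixedPoints.subfield X F
  haveI : FaithfulSMul X F := ⟨fun {a b} hab => Subtype.ext (RingEquiv.ext hab)⟩
  have hle : Nat.card E ≤ 2 := by
    rw [Nat.card_eq_fintype_card]
    calc Fintype.card E = (Finset.univ.map ⟨fun x : E => (x : F), Subtype.val_injective⟩).card := by
          rw [Finset.card_map, Finset.card_univ]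
      _ ≤ ({0, 1} : Finset F).card := Finset.card_le_card fun x hx => by
          obtain ⟨e, -, rfl⟩ := Finset.mem_map.1 hx
          simp only [Finset.mem_insert, Finset.mem_singleton, Function.Embedding.coeFn_mk]
          by_cases he : (e : F) = 0
          · exact Or.inl he
          · refine Or.inr (by_contra fun h1 => hno (Units.mk0 _ he) (fun e1 => h1 (congrArg Units.val e1)) ?_)
            exact e.2 ⟨σ, mem_zpowers σ⟩
      _ ≤ 2 := Finset.card_le_two
  have h2 : 1 < Nat.card E := Finite.one_lt_card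
  have h3 := Module.natCard_eq_pow_finrank (K := E) (V := F)
  rw [Nat.card_eq_fintype_card, Q.hF, show Nat.card E = 2 by omega] at h3
  have h4 := (Nat.pow_right_injective le_rfl h3).symm
  rw [show Module.finrank E F = Fintype.card X from FixedPoints.finrank_eq_card X F, ← Nat.card_eq_fintype_card,
    Nat.card_zpowers] at h4
  rcases (Nat.dvd_prime hl).1 (orderOf_dvd_of_pow_eq_one h) with e | e
  · rw [e] at h4
    have := Q.hm
    omega
  · exact hne (e.symm.trans h4)

variable {m : ℕ} {H : Type u} [Group H] [Finite H] {F₁ : Type v} [Field F₁] [Fintype F₁] {F₂ : Type w} [Field F₂]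
  [Fintype F₂]

theorem full_of_shape (S : Shape m H) (hm2 : m ≠ 2) (Q₁ : Par F₁ m) (Q₂ : Par F₂ m)
    (ι : Cfsg.Sz F₁ m × Cfsg.Sz F₂ m →* H) (hι : Function.Injective ι) [hn : ι.range.Normal]
    (hC : centralizer (ι.range : Set H) = ⊥) (g : H) : g ∈ ι.range := by
  haveI := sz_simple Q₁
  haveI := sz_simple Q₂
  set α := autOf ι hι g with hα
  rcases diag_or_swap (center_free Q₁) α with ⟨α₁, α₂, hd⟩ | ⟨hs, -⟩
  · obtain ⟨c₁, σ₁, e₁⟩ := exists_inner_mul_field Q₁ α₁
    obtain ⟨c₂, σ₂, e₂⟩ := exists_inner_mul_field Q₂ α₂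
    set g' := (ι (c₁, c₂))⁻¹ * g with hg'
    have hact : ∀ a b, g' * ι (a, b) * g'⁻¹ = ι (fld Q₁ σ₁ a, fld Q₂ σ₂ b) := by
      intro a b
      have h1 := autOf_spec hι g (a, b)
      rw [← hα, hd, e₁, e₂, MulAut.mul_apply, MulAut.mul_apply, MulAut.conj_apply, MulAut.conj_apply] at h1
      calc g' * ι (a, b) * g'⁻¹ = (ι (c₁, c₂))⁻¹ * (g * ι (a, b) * g⁻¹) * ι (c₁, c₂) := by rw [hg']; group
        _ = _ := by
          rw [← h1, ← map_inv, ← map_mul, ← map_mul]
          congr 1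
          simp [mul_assoc]
    suffices hg : g' ∈ ι.range by
      have := ι.range.mul_mem ⟨(c₁, c₂), rfl⟩ hg
      rwa [hg', mul_inv_cancel_left] at this
    by_cases hσ : (σ₁, σ₂) = (1 : (F₁ ≃+* F₁) × (F₂ ≃+* F₂))
    · obtain ⟨rfl, rfl⟩ := Prod.ext_iff.1 hσ
      refine ⟨1, (mem_range_of_inner hι hC (c := 1) (MulEquiv.ext fun x => hι ?_)).symm⟩
      rw [autOf_spec, show x = (x.1, x.2) from rfl, hact]
      simp
    exfalso
    set s : (F₁ ≃+* F₁) × (F₂ ≃+* F₂) := (σ₁, σ₂) with hs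
    obtain ⟨l, hl, hld⟩ := Nat.exists_prime_and_dvd (fun e => hσ (orderOf_eq_one_iff.1 e))
    have hactp : ∀ j : ℕ, ∀ a b, g' ^ j * ι (a, b) * (g' ^ j)⁻¹ = ι (fld Q₁ (σ₁ ^ j) a, fld Q₂ (σ₂ ^ j) b) := by
      intro j
      induction j with
      | zero => intro a b; simp
      | succ j ih =>
        intro a b
        calc g' ^ (j + 1) * ι (a, b) * (g' ^ (j + 1))⁻¹ = g' * (g' ^ j * ι (a, b) * (g' ^ j)⁻¹) * g'⁻¹ := by
              rw [pow_succ']; group
          _ = _ := by rw [ih, hact, pow_succ', pow_succ', map_mul, map_mul]; rfl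
    haveI : Finite (F₁ ≃+* F₁) := Finite.of_injective _ DFunLike.coe_injective
    haveI : Finite (F₂ ≃+* F₂) := Finite.of_injective _ DFunLike.coe_injective
    set j := orderOf s / l with hj
    have hto : orderOf (s ^ j) = l := orderOf_pow_orderOf_div (orderOf_pos s).ne' hld
    set x := g' ^ j with hx
    have hl₀ : l ∣ 2 * m + 1 := hld.trans (by
      rw [Prod.orderOf]
      exact Nat.lcm_dvd (orderOf_field_dvd Q₁ σ₁) (orderOf_field_dvd Q₂ σ₂))
    have hτ : (σ₁ ^ j) ^ l = 1 ∧ (σ₂ ^ j) ^ l = 1 :=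
      Prod.ext_iff.1 (show (s ^ j) ^ l = 1 by rw [← hto, pow_orderOf_eq_one])
    have hxl : x ^ l = 1 := by
      refine (mem_range_of_inner hι hC (c := 1) (MulEquiv.ext fun z => hι ?_)).trans (map_one ι)
      rw [autOf_spec, show z = (z.1, z.2) from rfl, hx, ← pow_mul, hactp, pow_mul, pow_mul, hτ.1, hτ.2]
      simp
    have hx1 : x ≠ 1 := by
      intro e
      have h1 : σ₁ ^ j = 1 := fld_inner Q₁ (c := 1) (MulEquiv.ext fun a => by
        have h := hι ((hactp j a 1).symm.trans (by rw [← hx, e, one_mul, inv_one, mul_one]))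
        rw [MulAut.conj_apply, one_mul, inv_one, mul_one]
        exact congrArg Prod.fst h)
      have h2 : σ₂ ^ j = 1 := fld_inner Q₂ (c := 1) (MulEquiv.ext fun b => by
        have h := hι ((hactp j 1 b).symm.trans (by rw [← hx, e, one_mul, inv_one, mul_one]))
        rw [MulAut.conj_apply, one_mul, inv_one, mul_one]
        exact congrArg Prod.snd h)
      exact hl.ne_one (hto.symm.trans (by rw [orderOf_eq_one_iff]; exact Prod.ext h1 h2))
    haveI := Fact.mk hl
    have hxo : orderOf x = l := orderOf_eq_prime hxl hx1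
    obtain ⟨i, hi⟩ := S.cls hl (hxo ▸ orderOf_dvd_natCard x)
    have hodd : ¬ 2 ∣ l := fun h => by have := h.trans hl₀; omega
    have hi0 : i ≠ 0 := by
      rintro rfl
      exact hodd (prime_of_zero hl hi).symm.dvd
    obtain ⟨c5, hc5, h5⟩ := five_dvd S.hm
    obtain ⟨b, hb, hbfix⟩ := five_fixed Q₂
    have hinv : ∀ y : Cfsg.Sz F₁ m × Cfsg.Sz F₂ m, (fld Q₁ (σ₁ ^ j) y.1, fld Q₂ (σ₂ ^ j) y.2) = y →
        Commute x (ι y) := fun y e => mul_inv_eq_iff_eq_mul.1 ((hactp j y.1 y.2).trans (congrArg ι e))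
    have ht : ∀ τ : F₁ ≃+* F₁, fld Q₁ τ (uu Q₁ 0 1) = uu Q₁ 0 1 := fun τ => by rw [fld_uu, map_zero, map_one]
    have hto2 : orderOf (uu Q₁ 0 1) = 2 := by
      refine orderOf_eq_prime ?_ fun e => one_ne_zero (uu_inj Q₁ (e.trans (uu_zero Q₁).symm)).2
      rw [uu_sq, zero_pow (Nat.succ_ne_zero _), uu_zero]
    have hord : ∀ c, orderOf (ι (uu Q₁ 0 1, c)) = Nat.lcm 2 (orderOf c) := fun c => by
      rw [orderOf_injective ι hι, Prod.orderOf_mk, hto2]
    by_cases hic : i = c5
    · subst hic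
      have hle : l ≠ 2 * m + 1 := fun e => by
        have h1 : l ∣ (2 ^ l) ^ 2 + 1 := by
          have h2 : l ∣ tor m 2 * tor m 3 := by
            rcases hc5 with rfl | rfl
            · exact hi.mul_right _
            · exact hi.mul_left _
          rwa [tor_mul S.hm, ← e] at h2
        have := eq_five hl h1
        omega
      obtain ⟨z, hz1, hz⟩ := exists_fixed Q₂ (σ₂ ^ j) hl hτ.2 hle
      have hzfix : fld Q₂ (σ₂ ^ j) (hI Q₂ z) = hI Q₂ z := by
        rw [fld_hI]; congr 1; exact Units.ext hz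
      have hIo : orderOf (hI Q₂ z) = orderOf z := orderOf_injective (hHom Q₂) (hHom_injective Q₂) z
      obtain ⟨p, hp, hpd⟩ := Nat.exists_prime_and_dvd (fun e => hz1 (orderOf_eq_one_iff.1 e))
      have hp1 : p ∣ tor m 1 := hpd.trans ((orderOf_dvd_natCard z).trans (by
        rw [Nat.card_units, Nat.card_eq_fintype_card, Q₂.hF]; exact dvd_rfl))
      have hcx := hinv (uu Q₁ 0 1, hI Q₂ z) (Prod.ext (ht _) hzfix)
      refine S.triple_commute hl Nat.prime_two hp hi (j := 0) (dvd_mul_right 2 2) hp1 hi0 (by decide) ?_ hxo.symm.dvd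
        ((hord (hI Q₂ z)).symm ▸ Nat.dvd_lcm_left _ _) ?_ hcx hcx (Commute.refl _) (orderOf_pos _) (orderOf_pos _)
        (orderOf_pos _)
      · rcases hc5 with rfl | rfl <;> decide
      · rw [hord, hIo]; exact hpd.trans (Nat.dvd_lcm_right _ _)
    · have hcx := hinv (uu Q₁ 0 1, b) (Prod.ext (ht _) (hbfix _))
      refine S.triple_commute hl Nat.prime_two (by norm_num : Nat.Prime 5) hi (j := 0) (dvd_mul_right 2 2) h5 hi0 ?_
        hic hxo.symm.dvd ((hord b).symm ▸ Nat.dvd_lcm_left _ _) ?_ hcx hcx (Commute.refl _) (orderOf_pos _)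
        (orderOf_pos _) (orderOf_pos _)
      · rcases hc5 with rfl | rfl <;> decide
      · rw [hord, hb]; exact Nat.dvd_lcm_right _ _
  · exfalso
    set h := g ^ (2 * m + 1) with hh
    obtain ⟨⟨a, b⟩, hab⟩ : h ^ 2 ∈ ι.range := by
      rw [hh, ← pow_mul, mul_comm]
      exact pow_mem_range_two Q₁ Q₂ hι hC g dvd_rfl dvd_rfl
    have hpow : ∀ n : ℕ, Diag ((α ^ 2) ^ n) := by
      intro n
      induction n with
      | zero => exact ⟨1, 1, fun a b => rfl⟩
      | succ n ih =>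
        obtain ⟨β₁, β₂, hβ⟩ := ih
        obtain ⟨γ₁, γ₂, hγ⟩ := diag_sq (center_free Q₁) α
        exact ⟨β₁ * γ₁, β₂ * γ₂, fun a b => by rw [pow_succ, MulAut.mul_apply, hγ, hβ]; rfl⟩
    obtain ⟨β₁, β₂, hβ⟩ := hpow m
    obtain ⟨x, hx⟩ := order_exists Q₁ 0
    have e1 : (autOf ι hι h (x * a⁻¹, 1)).1 = 1 := by
      rw [hh, map_pow, ← hα, pow_succ', pow_mul, MulAut.mul_apply, hβ, map_one]
      exact hs _
    set z := ι (x * a⁻¹, 1) * h with hz
    obtain ⟨q, hq, hq1⟩ : ∃ q, z ^ 2 = ι q ∧ q.1 = x := by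
      refine ⟨(x * a⁻¹, 1) * autOf ι hι h (x * a⁻¹, 1) * (a, b), ?_, ?_⟩
      · rw [map_mul, map_mul, hab, autOf_spec, hz]
        simp only [pow_two]
        group
      · simp [e1]
    have h4 : 4 ∣ orderOf (z ^ 2) := by
      rw [hq, orderOf_injective ι hι, Prod.orderOf, hq1, hx]
      exact Nat.dvd_lcm_left _ _
    refine S.not_eight z ?_
    have h2 : 2 ∣ orderOf z := (dvd_trans (by norm_num) h4).trans (orderOf_pow_dvd 2)
    rw [orderOf_pow_of_dvd two_ne_zero h2] at h4
    omega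

end Cfsg.Lib.SuzSquare
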