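import Mathlib
import Cfsg.Agent.SuzSquare.Spec
import Cfsg.Agent.SuzSquare.T
import Cfsg.Agent.SuzSquare.Norm
import Cfsg.Agent.SuzSquare.Socle

/-!
An abelian normal subgroup below two Suzuki groups is impossible.
-/

set_option autoImplicit false
set_option linter.unusedSectionVars false

namespace Cfsg.Lib.SuzSquare

open Subgroup

universe u v v₁ v₂ w₁ w₂

section Action

variable {G : Type u} [Group G] {H : Type v} [Group H] {π : G →* H} (hπ : Function.Surjective π)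
  (hab : ∀ a ∈ π.ker, ∀ b ∈ π.ker, Commute a b)

/-- The action of the quotient on the abelian kernel. -/
noncomputable def kerAct : H →* MulAut π.ker :=
  π.liftOfSurjective hπ ⟨MulAut.conjNormal, fun g hg => MonoidHom.mem_ker.2 (MulEquiv.ext fun v => Subtype.ext (by
    rw [MulAut.conjNormal_apply, MulAut.one_apply, (hab g hg v v.2).eq, mul_inv_cancel_right]))⟩

theorem kerAct_apply (g : G) (v : π.ker) : (kerAct hπ hab (π g) v : G) = g * v * g⁻¹ := by
  rw [kerAct, MonoidHom.liftOfRightInverse_comp_apply]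
  exact MulAut.conjNormal_apply g v

end Action

section Fixed

variable {V : Type u} [CommGroup V] {H : Type v} [Group H] (ρ : H →* MulAut V)

theorem norm_fixed {h : H} {c : ℕ} (hc : h ^ c = 1) (v : V) :
    ρ h (∏ i ∈ Finset.range c, ρ (h ^ i) v) = ∏ i ∈ Finset.range c, ρ (h ^ i) v := by
  have h1 : ρ h (∏ i ∈ Finset.range c, ρ (h ^ i) v) = ∏ i ∈ Finset.range c, ρ (h ^ (i + 1)) v := by
    rw [map_prod]
    refine Finset.prod_congr rfl fun i _ => ?_
    rw [pow_succ', map_mul, MulAut.mul_apply]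
  have h2 := Finset.prod_range_succ' (fun i => ρ (h ^ i) v) c
  rw [Finset.prod_range_succ, hc, pow_zero] at h2
  exact h1.trans (mul_right_cancel h2.symm)

/-- A four group fixes a nontrivial element of an invariant subgroup. -/
theorem four_fixed {a b : H} (ha : a * a = 1) (hb : b * b = 1) (Z : Subgroup V) (hZa : ∀ z ∈ Z, ρ a z ∈ Z)
    (hZb : ∀ z ∈ Z, ρ b z ∈ Z) {z : V} (hz : z ∈ Z) (hz1 : z ≠ 1) :
    ∃ t, (t = a ∨ t = b ∨ t = a * b) ∧ ∃ w ∈ Z, w ≠ 1 ∧ ρ t w = w := by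
  have aux : ∀ t : H, t * t = 1 → ρ t (z * ρ t z) = z * ρ t z := fun t ht => by
    rw [map_mul, ← MulAut.mul_apply, ← map_mul, ht, map_one, MulAut.one_apply, mul_comm]
  by_cases h1 : z * ρ a z = 1
  · by_cases h2 : z * ρ b z = 1
    · refine ⟨a * b, Or.inr (Or.inr rfl), z, hz, hz1, ?_⟩
      rw [map_mul, MulAut.mul_apply, eq_inv_of_mul_eq_one_right h2, map_inv, eq_inv_of_mul_eq_one_right h1, inv_inv]
    · exact ⟨b, Or.inr (Or.inl rfl), _, Z.mul_mem hz (hZb z hz), h2, aux b hb⟩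
  · exact ⟨a, Or.inl rfl, _, Z.mul_mem hz (hZa z hz), h1, aux a ha⟩

end Fixed

variable {m : ℕ} {G : Type u} [Group G] [Finite G] {H : Type v} [Group H] {π : G →* H}

/-- An element of the quotient fixing a point of the kernel gives three classes. -/
theorem fixed_triple (S : Shape m G) (hπ : Function.Surjective π) (hab : ∀ a ∈ π.ker, ∀ b ∈ π.ker, Commute a b)
    {r : ℕ} (hr : r.Prime) (hexp : ∀ v ∈ π.ker, v ^ r = 1) {h : H} {w : π.ker} (hw : w ≠ 1)
    (hfix : kerAct hπ hab h w = w) {p q : ℕ} (hp : p.Prime) (hq : q.Prime) {i j l : Fin 4} (hi : p ∣ tor m i)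
    (hj : q ∣ tor m j) (hl : r ∣ tor m l) (hij : i ≠ j) (hjl : j ≠ l) (hil : i ≠ l) (hph : p ∣ orderOf h)
    (hqh : q ∣ orderOf h) : False := by
  haveI := Fact.mk hr
  obtain ⟨g, rfl⟩ := hπ h
  have hwo : orderOf (w : G) = r := orderOf_eq_prime (hexp w w.2) fun e => hw (Subtype.ext e)
  have hc : Commute g (w : G) := by
    have h1 := congrArg Subtype.val hfix
    rw [kerAct_apply] at h1
    exact mul_inv_eq_iff_eq_mul.1 h1
  exact S.triple_commute hp hq hr hi hj hl hij hjl hil (hph.trans (orderOf_map_dvd π g))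
    (hqh.trans (orderOf_map_dvd π g)) hwo.symm.dvd (Commute.refl g) hc hc (orderOf_pos _) (orderOf_pos _)
    (orderOf_pos _)

/-- Norms of elements of the class of the kernel vanish, so a Frobenius piece makes a simple group act trivially. -/
theorem trivial_of_class (S : Shape m G) (hπ : Function.Surjective π) (hab : ∀ a ∈ π.ker, ∀ b ∈ π.ker, Commute a b)
    {r : ℕ} (hr : r.Prime) (hexp : ∀ v ∈ π.ker, v ^ r = 1) {T : Type w₁} [Group T] [Finite T] [IsSimpleGroup T]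
    (f : T →* H) {U P : Subgroup T} {x : T} {i : Fin 4} (fp : Fp U P x (tor m i)) (hne : ∃ u ∈ U, u ≠ 1)
    (hinj : Function.Injective f) (hri : r ∣ tor m i) (hrU : ¬ r ∣ Nat.card U) :
    ∀ (a : T) (v : π.ker), kerAct hπ hab (f a) v = v := by
  haveI := Fact.mk hr
  letI : CommGroup π.ker := { (inferInstance : Group π.ker) with
    mul_comm := fun a b => Subtype.ext (hab a a.2 b b.2).eq }
  let ρ : T →* MulAut π.ker := (kerAct hπ hab).comp f
  have hU := norm_trivial ρ U x (Nat.zero_lt_of_lt fp.lt) fp.conj (fun j hj hjc a ha b hb e => fp.injective hj hjc ha hb e)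
    (fun v hv => by
      have h1 : v ^ r = 1 := Subtype.ext (hexp v v.2)
      have h2 := pow_gcd_eq_one.2 ⟨h1, hv⟩
      rwa [(hr.coprime_iff_not_dvd.2 hrU).gcd_eq_one, pow_one] at h2)
    (fun u hu v => by
      have ho : orderOf (f (u * x)) = tor m i := by
        rw [orderOf_injective f hinj]
        exact (orderOf_eq_iff (Nat.zero_lt_of_lt fp.lt)).2 ⟨fp.coset_pow hu, fun j hjc hj e => by
          have h1 := fp.coset hu j
          rw [e, one_mul, inv_mem_iff] at h1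
          exact fp.out j hj hjc (fp.le h1)⟩
      obtain ⟨g, hg⟩ := hπ (f (u * x))
      obtain ⟨y, -, hy, hyo⟩ := S.exact_lift π (x := g) (i := i) (hg ▸ ho)
      have hn : y ∈ normalizer (π.ker : Set G) := by rw [normalizer_eq_top]; exact mem_top y
      have hW : ∀ p : ℕ, p.Prime → p ∣ Nat.card π.ker → p ∣ tor m i := fun p hp hd => by
        haveI := Fact.mk hp
        obtain ⟨z, hz⟩ := exists_prime_orderOf_dvd_card' (G := π.ker) p hd
        have h1 : orderOf z ∣ r := orderOf_dvd_of_pow_eq_one (Subtype.ext (hexp z z.2))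
        rw [hz, Nat.prime_dvd_prime_iff_eq hp hr] at h1
        exact h1 ▸ hri
      have key : ∀ n : ℕ, ((v : G) * y) ^ n = ((∏ j ∈ Finset.range n, ρ ((u * x) ^ j) v : π.ker) : G) * y ^ n := by
        intro n
        induction n with
        | zero => simp
        | succ n ih =>
          have e : (ρ ((u * x) ^ n) v : G) = y ^ n * v * (y ^ n)⁻¹ := by
            rw [← kerAct_apply hπ hab, map_pow π, hy, hg, ← map_pow f]
            rfl
          rw [Finset.prod_range_succ, Subgroup.coe_mul, e, pow_succ, ih, pow_succ]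
          group
      have h1 := S.norm_one hW hn hyo.dvd v.2
      rw [key, ← hyo, pow_orderOf_eq_one, mul_one] at h1
      exact Subtype.ext (hyo ▸ h1))
  intro a v
  rcases (inferInstance : ρ.ker.Normal).eq_bot_or_eq_top with e | e
  · exfalso
    obtain ⟨u, hu, hu1⟩ := hne
    exact hu1 ((eq_bot_iff_forall _).1 e u (MonoidHom.mem_ker.2 (MulEquiv.ext fun v => hU u hu v)))
  · exact DFunLike.congr_fun (MonoidHom.mem_ker.1 (e ▸ mem_top a : a ∈ ρ.ker)) v

theorem orderOf_pair {T₁ : Type w₁} [Group T₁] {T₂ : Type w₂} [Group T₂] (ι : T₁ × T₂ →* H)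
    (hι : Function.Injective ι) (a : T₁) (b : T₂) :
    orderOf a ∣ orderOf (ι (a, b)) ∧ orderOf b ∣ orderOf (ι (a, b)) := by
  rw [orderOf_injective ι hι, Prod.orderOf_mk]
  exact ⟨Nat.dvd_lcm_left _ _, Nat.dvd_lcm_right _ _⟩

theorem four_in_zSub {F : Type w₁} [Field F] [Fintype F] {k : ℕ} (Q : Cfsg.Lib.Suz.Par F k) :
    ∃ a b : Cfsg.Sz F k, a * a = 1 ∧ b * b = 1 ∧ Commute a b ∧ orderOf a = 2 ∧ orderOf b = 2 ∧ orderOf (a * b) = 2 := by
  haveI := Cfsg.Lib.Suz.charP Q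
  have hcard : 2 < Fintype.card F := by
    rw [Q.hF]
    calc 2 < 2 ^ 3 := by norm_num
      _ ≤ _ := Nat.pow_le_pow_right two_pos (by have := Q.hm; omega)
  obtain ⟨l, hl0, hl1⟩ : ∃ l : F, l ≠ 0 ∧ l ≠ 1 := by
    by_contra h
    push Not at h
    classical
    have : (Finset.univ : Finset F) ⊆ {0, 1} := fun x _ => by
      by_cases hx : x = 0
      · simp [hx]
      · simp [h x hx]
    have := (Finset.card_le_card this).trans Finset.card_le_two
    rw [Finset.card_univ] at this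
    omega
  have h2 : ∀ d : F, d ≠ 0 → orderOf (Cfsg.Lib.Suz.uu Q 0 d) = 2 := fun d hd => by
    refine orderOf_eq_prime ?_ fun e => hd (Cfsg.Lib.Suz.uu_inj Q (e.trans (Cfsg.Lib.Suz.uu_zero Q).symm)).2
    rw [Cfsg.Lib.Suz.uu_sq, zero_pow (Nat.succ_ne_zero _), Cfsg.Lib.Suz.uu_zero]
  have hsq : ∀ d : F, Cfsg.Lib.Suz.uu Q 0 d * Cfsg.Lib.Suz.uu Q 0 d = 1 := fun d => by
    rw [← pow_two, Cfsg.Lib.Suz.uu_sq, zero_pow (Nat.succ_ne_zero _), Cfsg.Lib.Suz.uu_zero]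
  have hmul : ∀ c d : F, Cfsg.Lib.Suz.uu Q 0 c * Cfsg.Lib.Suz.uu Q 0 d = Cfsg.Lib.Suz.uu Q 0 (c + d) := fun c d => by
    rw [Cfsg.Lib.Suz.uu_mul]
    simp
  refine ⟨Cfsg.Lib.Suz.uu Q 0 1, Cfsg.Lib.Suz.uu Q 0 l, hsq 1, hsq l, ?_, h2 1 one_ne_zero, h2 l hl0, ?_⟩
  · show _ = _
    rw [hmul, hmul, add_comm]
  · rw [hmul]
    exact h2 _ fun e => hl1 (CharTwo.add_eq_zero.1 e).symm

/-- Two Suzuki groups above an abelian kernel of prime exponent are impossible. -/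
theorem no_radical {F₁ : Type w₁} [Field F₁] [Fintype F₁] {F₂ : Type w₂} [Field F₂] [Fintype F₂] {k : ℕ}
    (S : Shape m G) (hπ : Function.Surjective π) (hab : ∀ a ∈ π.ker, ∀ b ∈ π.ker, Commute a b) {r : ℕ} (hr : r.Prime)
    (hexp : ∀ v ∈ π.ker, v ^ r = 1) (hne : π.ker ≠ ⊥) (Q₁ : Cfsg.Lib.Suz.Par F₁ m) (Q₂ : Cfsg.Lib.Suz.Par F₂ k)
    (ι : Cfsg.Sz F₁ m × Cfsg.Sz F₂ k →* H) (hι : Function.Injective ι) : False := by
  haveI := Fact.mk hr
  haveI := sz_simple Q₁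
  haveI := sz_simple Q₂
  letI : CommGroup π.ker := { (inferInstance : Group π.ker) with
    mul_comm := fun a b => Subtype.ext (hab a a.2 b b.2).eq }
  let ρ : H →* MulAut π.ker := kerAct hπ hab
  obtain ⟨w₀, hw₀, hw₀1⟩ := π.ker.bot_or_exists_ne_one.resolve_left hne
  obtain ⟨l, hl⟩ : ∃ l : Fin 4, r ∣ tor m l := S.cls hr ((orderOf_eq_prime (hexp w₀ hw₀) hw₀1).symm.dvd.trans
    (orderOf_dvd_natCard w₀))
  let f₁ : Cfsg.Sz F₁ m →* H := ι.comp (MonoidHom.inl _ _)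
  let f₂ : Cfsg.Sz F₂ k →* H := ι.comp (MonoidHom.inr _ _)
  have hf₁ : Function.Injective f₁ := fun a b e => congrArg Prod.fst (hι e)
  have hf₂ : Function.Injective f₂ := fun a b e => congrArg Prod.snd (hι e)
  have hsplit : ∀ a b, ι (a, b) = f₁ a * f₂ b := fun a b => by
    show _ = ι _ * ι _
    rw [← map_mul]
    simp
  have hcomm : ∀ a b, f₁ a * f₂ b = f₂ b * f₁ a := fun a b => by
    show ι _ * ι _ = ι _ * ι _
    rw [← map_mul, ← map_mul]
    simp
  have hw₀' : (⟨w₀, hw₀⟩ : π.ker) ≠ 1 := fun e => hw₀1 (congrArg Subtype.val e)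
  obtain ⟨a, b, ha, hb, -, hao, hbo, habo⟩ := four_in_zSub Q₂
  have hfa : f₂ a * f₂ a = 1 := by rw [← map_mul, ha, map_one]
  have hfb : f₂ b * f₂ b = 1 := by rw [← map_mul, hb, map_one]
  have htwo : ∀ t, t = f₂ a ∨ t = f₂ b ∨ t = f₂ a * f₂ b → ∃ s, f₂ s = t ∧ orderOf s = 2 := by
    rintro t (rfl | rfl | rfl)
    · exact ⟨a, rfl, hao⟩
    · exact ⟨b, rfl, hbo⟩
    · exact ⟨a * b, map_mul _ _ _, habo⟩
  by_cases hl0 : l = 0
  · subst hl0
    obtain ⟨U, u, x, hu, huo, hxo, fp⟩ := fp_torus Q₁ (i := 2) (Or.inl rfl)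
    obtain ⟨U', u', x', hu', huo', hxo', fp'⟩ := fp_torus Q₂ (i := 2) (Or.inl rfl)
    have hr2 := prime_of_zero hr hl
    subst hr2
    have hu1 : u ≠ 1 := fun e => (tor_gt_one S.hm 2).ne (by rw [← huo, e, orderOf_one])
    have hu1' : u' ≠ 1 := fun e => (tor_gt_one Q₂.hm 2).ne (by rw [← huo', e, orderOf_one])
    have hU : ¬ 2 ∣ Nat.card U := by
      rw [← hu, Nat.card_zpowers, huo]
      exact fun h => absurd (Nat.mod_eq_zero_of_dvd h) (by rw [tor_odd S.hm (by decide)]; norm_num)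
    have hU' : ¬ 2 ∣ Nat.card U' := by
      rw [← hu', Nat.card_zpowers, huo']
      exact fun h => absurd (Nat.mod_eq_zero_of_dvd h) (by rw [tor_odd Q₂.hm (by decide)]; norm_num)
    have h1 := trivial_of_class (i := 0) S hπ hab hr hexp f₁ fp ⟨u, hu ▸ mem_zpowers u, hu1⟩ hf₁ hl hU
    have h2 := trivial_of_class (i := 0) S hπ hab hr hexp f₂ fp' ⟨u', hu' ▸ mem_zpowers u', hu1'⟩ hf₂ hl hU'
    obtain ⟨b₂, hb₂⟩ := order_exists Q₂ 1
    obtain ⟨q, hq, hqd⟩ := Nat.exists_prime_and_dvd (tor_gt_one Q₂.hm 1).ne'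
    obtain ⟨g, hg⟩ := hπ (f₂ b₂)
    have hqg : q ∣ Nat.card G :=
      ((hqd.trans hb₂.symm.dvd).trans (by rw [← orderOf_injective f₂ hf₂, ← hg])).trans
        ((orderOf_map_dvd π g).trans (orderOf_dvd_natCard g))
    obtain ⟨n, hn⟩ := S.cls hq hqg
    have hn0 : n ≠ 0 := by
      rintro rfl
      rw [prime_of_zero hq hn] at hqd
      exact absurd (Nat.mod_eq_zero_of_dvd hqd) (by rw [tor_odd Q₂.hm (by decide)]; norm_num)
    obtain ⟨j, hj0, hjn⟩ : ∃ j : Fin 4, j ≠ 0 ∧ j ≠ n := by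
      by_cases h : n = 1
      · exact ⟨2, by decide, by rw [h]; decide⟩
      · exact ⟨1, by decide, Ne.symm h⟩
    obtain ⟨a₁, ha₁⟩ := order_exists Q₁ j
    obtain ⟨p, hp, hpd⟩ := Nat.exists_prime_and_dvd (tor_gt_one S.hm j).ne'
    refine fixed_triple S hπ hab hr hexp (h := ι (a₁, b₂)) hw₀' ?_ hp hq hpd hn hl hjn hn0 hj0
      ((ha₁ ▸ hpd).trans (orderOf_pair ι hι a₁ b₂).1) ((hb₂ ▸ hqd).trans (orderOf_pair ι hι a₁ b₂).2)
    rw [hsplit, map_mul, MulAut.mul_apply, h2, h1]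
  by_cases htriv : ∀ (x : Cfsg.Sz F₁ m) (v : π.ker), ρ (f₁ x) v = v
  · obtain ⟨j, hj0, hjl⟩ : ∃ j : Fin 4, j ≠ 0 ∧ j ≠ l := by
      by_cases h : l = 1
      · exact ⟨2, by decide, by rw [h]; decide⟩
      · exact ⟨1, by decide, Ne.symm h⟩
    obtain ⟨a₁, ha₁⟩ := order_exists Q₁ j
    obtain ⟨p, hp, hpd⟩ := Nat.exists_prime_and_dvd (tor_gt_one S.hm j).ne'
    obtain ⟨t, ht, w, -, hw, htw⟩ := four_fixed ρ hfa hfb ⊤ (fun _ _ => mem_top _) (fun _ _ => mem_top _)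
      (mem_top ⟨w₀, hw₀⟩) hw₀'
    obtain ⟨s, rfl, hs⟩ := htwo t ht
    refine fixed_triple S hπ hab hr hexp (h := ι (a₁, s)) hw ?_ hp Nat.prime_two hpd (j := 0) (dvd_mul_right 2 2) hl
      hj0 (Ne.symm hl0) hjl ((ha₁ ▸ hpd).trans (orderOf_pair ι hι a₁ s).1)
      (hs.symm.dvd.trans (orderOf_pair ι hι a₁ s).2)
    rw [hsplit, map_mul, MulAut.mul_apply]
    exact (congrArg _ htw).trans (htriv a₁ w)
  obtain ⟨x, hxo, fp⟩ := fp_zSub Q₁
  have hUne := zSub_nontrivial Q₁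
  have hU : ¬ r ∣ Nat.card (zSub Q₁) := fun h => by
    haveI : Fact (Nat.Prime 2) := ⟨Nat.prime_two⟩
    obtain ⟨n, hn⟩ := IsPGroup.iff_card.1 (Cfsg.Lib.Suz.isPGroup_uSub Q₁)
    have h2 := (h.trans (card_dvd_of_le (zSub_le Q₁)))
    rw [hn] at h2
    exact hl0 (two_class S.hm ((Nat.prime_dvd_prime_iff_eq hr Nat.prime_two).1 (hr.dvd_of_dvd_pow h2) ▸ hl))
  by_cases hl1 : l = 1
  · subst hl1
    exact htriv (trivial_of_class S hπ hab hr hexp f₁ fp hUne hf₁ hl hU)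
  obtain ⟨u, hu, v, hne'⟩ : ∃ u ∈ zSub Q₁, ∃ v : π.ker,
      ∏ i ∈ Finset.range (tor m 1), (ρ.comp f₁) ((u * x) ^ i) v ≠ 1 := by
    by_contra hno
    push Not at hno
    have hfix := norm_trivial (ρ.comp f₁) (zSub Q₁) x (Nat.zero_lt_of_lt fp.lt) fp.conj
      (fun j hj hjc a ha b hb e => fp.injective hj hjc ha hb e)
      (fun v hv => by
        have h1 : v ^ r = 1 := Subtype.ext (hexp v v.2)
        have h2 := pow_gcd_eq_one.2 ⟨h1, hv⟩
        rwa [(hr.coprime_iff_not_dvd.2 hU).gcd_eq_one, pow_one] at h2) hno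
    refine htriv fun a v => ?_
    rcases (inferInstance : (ρ.comp f₁).ker.Normal).eq_bot_or_eq_top with e | e
    · obtain ⟨u, hu, hu1⟩ := hUne
      exact absurd ((eq_bot_iff_forall _).1 e u (MonoidHom.mem_ker.2 (MulEquiv.ext fun v => hfix u hu v))) hu1
    · exact DFunLike.congr_fun (MonoidHom.mem_ker.1 (e ▸ mem_top a : a ∈ (ρ.comp f₁).ker)) v
  set y := u * x with hy
  have hyo : orderOf y = tor m 1 :=
    (orderOf_eq_iff (Nat.zero_lt_of_lt fp.lt)).2 ⟨fp.coset_pow hu, fun j hjc hj e => by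
      have h1 := fp.coset hu j
      rw [← hy, e, one_mul, inv_mem_iff] at h1
      exact fp.out j hj hjc (fp.le h1)⟩
  let Z : Subgroup π.ker :=
    { carrier := {z | ρ (f₁ y) z = z}
      one_mem' := map_one _
      mul_mem' := fun {c d} hc hd => by
        show ρ (f₁ y) (c * d) = c * d
        rw [map_mul, show ρ (f₁ y) c = c from hc, show ρ (f₁ y) d = d from hd]
      inv_mem' := fun {c} hc => by
        show ρ (f₁ y) c⁻¹ = c⁻¹
        rw [map_inv, show ρ (f₁ y) c = c from hc] }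
  have hwZ : (∏ i ∈ Finset.range (tor m 1), (ρ.comp f₁) (y ^ i) v) ∈ Z :=
    norm_fixed (ρ.comp f₁) (hyo ▸ pow_orderOf_eq_one y) v
  have hinv : ∀ s, ∀ z ∈ Z, ρ (f₂ s) z ∈ Z := fun s z hz => by
    show ρ (f₁ y) (ρ (f₂ s) z) = ρ (f₂ s) z
    rw [← MulAut.mul_apply, ← map_mul, hcomm, map_mul, MulAut.mul_apply, show ρ (f₁ y) z = z from hz]
  obtain ⟨t, ht, w, hwz, hw, htw⟩ := four_fixed ρ hfa hfb Z (hinv a) (hinv b) hwZ hne'
  obtain ⟨s, rfl, hs⟩ := htwo t ht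
  obtain ⟨p, hp, hpd⟩ := Nat.exists_prime_and_dvd (tor_gt_one S.hm 1).ne'
  refine fixed_triple S hπ hab hr hexp (h := ι (y, s)) hw ?_ hp Nat.prime_two hpd (j := 0) (dvd_mul_right 2 2) hl
    (by decide) (Ne.symm hl0) (Ne.symm hl1) ((hyo ▸ hpd).trans (orderOf_pair ι hι y s).1)
    (hs.symm.dvd.trans (orderOf_pair ι hι y s).2)
  rw [hsplit, map_mul, MulAut.mul_apply]
  exact (congrArg _ htw).trans hwz

end Cfsg.Lib.SuzSquare
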