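import Mathlib
import Cfsg.Agent.S0721
import Cfsg.Agent.SuzMaxOrders.Main
import Cfsg.Agent.Suz.Subfield
import Cfsg.Agent.SuzSquare.One.Main
import Cfsg.Agent.SuzSquare.Foreign
import Cfsg.Agent.SuzSquare.Radical
import Cfsg.Agent.SuzSquare.Outer

/-!
A group with the element orders of the square of a Suzuki group is that square.
-/

set_option autoImplicit false
set_option linter.unusedSectionVars false

namespace Cfsg.Lib.SuzSquare

open Subgroup Cfsg.Lib.Suz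

universe u v v₁ v₂ v₃

variable {m : ℕ}

theorem not_three_dvd (hm : 1 ≤ m) (i : Fin 4) : ¬ 3 ∣ tor m i := by
  intro h
  have hq : (2 : ℕ) ^ (2 * m + 1) % 3 = 2 := by rw [pow_succ, pow_mul, Nat.mul_mod, Nat.pow_mod]; norm_num
  fin_cases i
  · exact absurd (show 3 ∣ 4 from h) (by norm_num)
  · have h1 : 3 ∣ 2 ^ (2 * m + 1) - 1 := h
    generalize (2 : ℕ) ^ (2 * m + 1) = x at h1 hq
    omega
  all_goals
    have h1 : 3 ∣ (2 ^ (2 * m + 1)) ^ 2 + 1 := by
      rw [← tor_mul hm]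
      first
        | exact h.mul_right _
        | exact h.mul_left _
    have h2 : ((2 ^ (2 * m + 1)) ^ 2 + 1) % 3 = 2 := by simp [Nat.add_mod, Nat.pow_mod, hq]
    omega

theorem tor_one_dvd {k : ℕ} (h : 2 * k + 1 ∣ 2 * m + 1) : tor k 1 ∣ tor m 1 :=
  Nat.pow_sub_one_dvd_pow_sub_one 2 h

/-- The odd part of the exponent of a Suzuki group. -/
def oddExpo (k : ℕ) : ℕ := (2 ^ (2 * k + 1) - 1) * ((2 ^ (2 * k + 1)) ^ 2 + 1)

theorem four_oddExpo (k : ℕ) : 4 * oddExpo k = expo k := by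
  rw [oddExpo, expo, mul_assoc]

theorem oddExpo_odd (k : ℕ) : oddExpo k % 2 = 1 := by
  have h0 : 2 ∣ 2 ^ (2 * k + 1) := dvd_pow_self 2 (by omega)
  have h1 : 1 ≤ 2 ^ (2 * k + 1) := Nat.one_le_two_pow
  have h2 : 2 ∣ (2 ^ (2 * k + 1)) ^ 2 := h0.trans (dvd_pow_self _ two_ne_zero)
  rw [oddExpo, Nat.mul_mod]
  have a : (2 ^ (2 * k + 1) - 1) % 2 = 1 := by omega
  have b : ((2 ^ (2 * k + 1)) ^ 2 + 1) % 2 = 1 := by omega
  rw [a, b]

section Socle

theorem mulSingle_inj {n : ℕ} {M : Type v} [MulOneClass M] (i : Fin n) :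
    Function.Injective (MonoidHom.mulSingle (fun _ : Fin n => M) i) := fun a b h => by simpa using congrFun h i

variable {H : Type u} [Group H] [Finite H]

/-- Three commuting Suzuki groups give three classes. -/
theorem no_three (S : Shape m H) {K₁ : Type v₁} [Field K₁] [Fintype K₁] {k₁ : ℕ} {K₂ : Type v₂} [Field K₂]
    [Fintype K₂] {k₂ : ℕ} {K₃ : Type v₃} [Field K₃] [Fintype K₃] {k₃ : ℕ} (Q₁ : Par K₁ k₁) (Q₂ : Par K₂ k₂)
    (Q₃ : Par K₃ k₃) (hd : 2 * k₂ + 1 ∣ 2 * m + 1) (f₁ : Cfsg.Sz K₁ k₁ →* H) (f₂ : Cfsg.Sz K₂ k₂ →* H)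
    (f₃ : Cfsg.Sz K₃ k₃ →* H) (h₁ : Function.Injective f₁) (h₂ : Function.Injective f₂) (h₃ : Function.Injective f₃)
    (h12 : ∀ a b, Commute (f₁ a) (f₂ b)) (h13 : ∀ a b, Commute (f₁ a) (f₃ b))
    (h23 : ∀ a b, Commute (f₂ a) (f₃ b)) : False := by
  obtain ⟨a, ha⟩ := order_exists Q₁ 0
  obtain ⟨b, hb⟩ := order_exists Q₂ 1
  obtain ⟨c, hc, -⟩ := five_fixed Q₃
  obtain ⟨p, hp, hpd⟩ := Nat.exists_prime_and_dvd (tor_gt_one Q₂.hm 1).ne'
  obtain ⟨i, hi, h5⟩ := five_dvd S.hm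
  refine S.triple_commute Nat.prime_two hp (by norm_num : Nat.Prime 5) (i := 0) (j := 1) (dvd_mul_right 2 2)
    (hpd.trans (tor_one_dvd hd)) h5 (by decide) ?_ ?_ ?_ ?_ ?_ (h12 a b) (h13 a c) (h23 b c) (orderOf_pos _)
    (orderOf_pos _) (orderOf_pos _)
  · rcases hi with rfl | rfl <;> decide
  · rcases hi with rfl | rfl <;> decide
  · rw [orderOf_injective f₁ h₁, ha]; exact (by decide : 2 ∣ 4)
  · rwa [orderOf_injective f₂ h₂, hb]
  · rw [orderOf_injective f₃ h₃, hc]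

theorem exists_minimal_normal {C : Subgroup H} [C.Normal] (hC : C ≠ ⊥) :
    ∃ N : Subgroup H, N.Normal ∧ N ≠ ⊥ ∧ N ≤ C ∧ ∀ M : Subgroup H, M.Normal → M ≤ N → M = ⊥ ∨ M = N := by
  obtain ⟨N, ⟨hn, hne, hle⟩, hmin⟩ := (Set.toFinite {N : Subgroup H | N.Normal ∧ N ≠ ⊥ ∧ N ≤ C}).exists_minimal
    ⟨C, inferInstance, hC, le_rfl⟩
  refine ⟨N, hn, hne, hle, fun M hM hMN => ?_⟩
  by_cases hM0 : M = ⊥
  · exact Or.inl hM0
  · exact Or.inr (le_antisymm hMN (hmin ⟨hM, hM0, hMN.trans hle⟩ hMN))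

/-- A minimal normal subgroup is a power of a Suzuki group over a subfield. -/
theorem minimal_power (S : Shape m H) (hsol : ∀ N : Subgroup H, N.Normal → Group.IsSolvable N → N = ⊥)
    {N : Subgroup H} [hNn : N.Normal] (hN : N ≠ ⊥) (hmin : ∀ M : Subgroup H, M.Normal → M ≤ N → M = ⊥ ∨ M = N) :
    ∃ (K : Type) (_ : Field K) (_ : Fintype K) (k n : ℕ), Par K k ∧ 2 * k + 1 ∣ 2 * m + 1 ∧ 0 < n ∧
      ∃ e : (Fin n → Cfsg.Sz K k) →* H, Function.Injective e ∧ e.range = N := by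
  classical
  obtain ⟨T, iT, n, hT, hn, ⟨e⟩⟩ := Cfsg.Agent.S0721.result N hN hmin
  haveI := hT
  let sg : T →* N := e.symm.toMonoidHom.comp (MonoidHom.mulSingle (fun _ : Fin n => T) ⟨0, hn⟩)
  have hsg : Function.Injective sg := e.symm.injective.comp (mulSingle_inj _)
  haveI : Finite T := Finite.of_injective sg hsg
  have hna : ¬ IsMulCommutative T := fun hh => hN (hsol N hNn (Group.isSolvable_of_comm fun a b => e.injective (by
    rw [map_mul, map_mul]
    exact funext fun i => hh.is_comm.comm _ _)))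
  have ST : Shape m T := (S.subgroup N).of_injective sg hsg
  have h3 : ¬ 3 ∣ Nat.card T := fun h => by
    obtain ⟨i, hi⟩ := ST.cls Nat.prime_three h
    exact not_three_dvd S.hm i hi
  obtain ⟨K, iK, iK', k, hk, hK, ⟨e₀⟩⟩ := Cfsg.Lib.SuzMax.isoSuzuki_of_coprime_three hna h3
  have P : Par K k := ⟨hk, hK⟩
  let eT : T ≃* Cfsg.Sz K k := e₀.trans (lieEquiv P).symm
  refine ⟨K, iK, iK', k, n, P, ?_, hn,
    N.subtype.comp (e.trans (MulEquiv.piCongrRight fun _ => eT)).symm.toMonoidHom,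
    N.subtype_injective.comp (MulEquiv.injective _), ?_⟩
  · refine dvd_of_primes (odd_two_mul_add_one k) (by omega) fun p hp hpd => ?_
    obtain ⟨g, hg⟩ := order_exists P 1
    have hpd' : p ∣ orderOf g := hg ▸ hpd
    obtain ⟨j, hj⟩ := ST.pp (g := eT.symm g) (v := 1) hp (by rw [pow_one, MulEquiv.orderOf_eq]; exact hpd')
    rw [pow_one] at hj
    have hp2 : p ≠ 2 := fun e2 => by
      subst e2
      have h0 : 2 ∣ 2 ^ (2 * k + 1) := dvd_pow_self 2 (by omega)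
      have := Nat.one_le_two_pow (n := 2 * k + 1)
      omega
    fin_cases j
    · exact absurd (prime_of_zero hp hj) hp2
    · exact hj
    all_goals
      refine absurd ?_ (not_sq_add_one (e := 2 * m + 1) hp hp2 (odd_two_mul_add_one k) hpd)
      rw [← tor_mul S.hm]
      first
        | exact hj.mul_right _
        | exact hj.mul_left _
  · rw [MonoidHom.range_comp, MonoidHom.range_eq_top.2 (MulEquiv.surjective _), ← MonoidHom.range_eq_map, range_subtype]

/-- A Suzuki group inside a nontrivial normal subgroup. -/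
theorem exists_factor (S : Shape m H) (hsol : ∀ N : Subgroup H, N.Normal → Group.IsSolvable N → N = ⊥)
    {C : Subgroup H} [C.Normal] (hC : C ≠ ⊥) :
    ∃ (K : Type) (_ : Field K) (_ : Fintype K) (k : ℕ), Par K k ∧ 2 * k + 1 ∣ 2 * m + 1 ∧
      ∃ f : Cfsg.Sz K k →* H, Function.Injective f ∧ ∀ a, f a ∈ C := by
  classical
  obtain ⟨N, hNn, hN, hle, hmin⟩ := exists_minimal_normal hC
  haveI := hNn
  obtain ⟨K, iK, iK', k, n, P, hd, hn, e, he, her⟩ := minimal_power S hsol hN hmin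
  exact ⟨K, iK, iK', k, P, hd, e.comp (MonoidHom.mulSingle (fun _ : Fin n => Cfsg.Sz K k) ⟨0, hn⟩),
    he.comp (mulSingle_inj _), fun a => hle (her ▸ ⟨_, rfl⟩)⟩

/-- The socle consists of one or two Suzuki groups. -/
theorem exists_config (S : Shape m H) (hsol : ∀ N : Subgroup H, N.Normal → Group.IsSolvable N → N = ⊥)
    [Nontrivial H] :
    (∃ (K : Type) (_ : Field K) (_ : Fintype K) (k : ℕ), Par K k ∧ 2 * k + 1 ∣ 2 * m + 1 ∧
      ∃ ι : Cfsg.Sz K k →* H, Function.Injective ι ∧ ι.range.Normal ∧ centralizer (ι.range : Set H) = ⊥) ∨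
    (∃ (K₁ : Type) (_ : Field K₁) (_ : Fintype K₁) (k₁ : ℕ) (K₂ : Type) (_ : Field K₂) (_ : Fintype K₂) (k₂ : ℕ),
      Par K₁ k₁ ∧ Par K₂ k₂ ∧ 2 * k₁ + 1 ∣ 2 * m + 1 ∧ 2 * k₂ + 1 ∣ 2 * m + 1 ∧
      ∃ ι : Cfsg.Sz K₁ k₁ × Cfsg.Sz K₂ k₂ →* H, Function.Injective ι ∧ ι.range.Normal ∧
        centralizer (ι.range : Set H) = ⊥) := by
  classical
  obtain ⟨N, hNn, hN, -, hmin⟩ := exists_minimal_normal (C := (⊤ : Subgroup H)) top_ne_bot
  haveI := hNn
  obtain ⟨K, iK, iK', k, n, P, hd, hn, e, he, her⟩ := minimal_power S hsol hN hmin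
  let s : Fin n → (Cfsg.Sz K k →* H) := fun i => e.comp (MonoidHom.mulSingle (fun _ : Fin n => Cfsg.Sz K k) i)
  have hs : ∀ i, Function.Injective (s i) := fun i => he.comp (mulSingle_inj i)
  have hsN : ∀ i a, s i a ∈ N := fun i a => her ▸ ⟨_, rfl⟩
  have hsc : ∀ i j, i ≠ j → ∀ a b, Commute (s i a) (s j b) := fun i j hij a b =>
    (Pi.mulSingle_commute (f := fun _ : Fin n => Cfsg.Sz K k) hij a b).map e
  have hsdef : ∀ i a, s i a = e (Pi.mulSingle i a) := fun i a => rfl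
  match n, hn, e, he, her, s, hs, hsN, hsc, hsdef with
  | 0, hn, _, _, _, _, _, _, _, _ => exact absurd hn (lt_irrefl 0)
  | 1, _, e, he, her, s, hs, hsN, hsc, hsdef =>
    have hr : (s 0).range = N := by
      refine le_antisymm (fun x ⟨a, ha⟩ => ha ▸ hsN 0 a) ?_
      intro x hx
      obtain ⟨y, rfl⟩ := (her.symm ▸ hx : x ∈ e.range)
      refine ⟨y 0, ?_⟩
      rw [hsdef]
      congr 1
      funext i
      rw [Subsingleton.elim i 0, Pi.mulSingle_eq_same]
    by_cases hC : centralizer (N : Set H) = ⊥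
    · exact Or.inl ⟨K, iK, iK', k, P, hd, s 0, hs 0, hr.symm ▸ hNn, hr.symm ▸ hC⟩
    right
    obtain ⟨N', hN'n, hN', hle, hmin'⟩ := exists_minimal_normal hC
    haveI := hN'n
    obtain ⟨K', iK₂, iK₂', k', n', P', hd', hn', e', he', her'⟩ := minimal_power S hsol hN' hmin'
    have hc' : ∀ a y, Commute (s 0 a) (e' y) := fun a y =>
      mem_centralizer_iff.1 (hle (her' ▸ ⟨y, rfl⟩)) (s 0 a) (hsN 0 a)
    match n', hn', e', he', her', hc' with
    | 0, hn', _, _, _, _ => exact absurd hn' (lt_irrefl 0)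
    | n'' + 2, _, e', he', her', hc' =>
      exact absurd (no_three S P P' P' hd' (s 0) (e'.comp (MonoidHom.mulSingle (fun _ => Cfsg.Sz K' k') 0))
        (e'.comp (MonoidHom.mulSingle (fun _ => Cfsg.Sz K' k') 1)) (hs 0) (he'.comp (mulSingle_inj _))
        (he'.comp (mulSingle_inj _)) (fun a b => hc' a _) (fun a b => hc' a _)
        (fun a b => (Pi.mulSingle_commute (f := fun _ : Fin (n'' + 2) => Cfsg.Sz K' k') (by simp) a b).map e')) id
    | 1, _, e', he', her', hc' =>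
      let f' : Cfsg.Sz K' k' →* H := e'.comp (MonoidHom.mulSingle (fun _ => Cfsg.Sz K' k') 0)
      have hf' : Function.Injective f' := he'.comp (mulSingle_inj _)
      have hr' : f'.range = N' := by
        refine le_antisymm (fun x ⟨a, ha⟩ => ha ▸ her' ▸ ⟨_, rfl⟩) ?_
        intro x hx
        obtain ⟨y, rfl⟩ := (her'.symm ▸ hx : x ∈ e'.range)
        refine ⟨y 0, ?_⟩
        show e' (Pi.mulSingle 0 (y 0)) = e' y
        congr 1
        funext i
        rw [Subsingleton.elim i 0, Pi.mulSingle_eq_same]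
      have hcf : ∀ a b, Commute (s 0 a) (f' b) := fun a b => hc' a _
      let ι := (s 0).noncommCoprod f' hcf
      have hιr : ι.range = N ⊔ N' := by rw [MonoidHom.noncommCoprod_range, hr, hr']
      haveI hιn : ι.range.Normal := by rw [hιr]; infer_instance
      have hι : Function.Injective ι := by
        rw [injective_iff_map_eq_one]
        rintro ⟨a, b⟩ hab
        change s 0 a * f' b = 1 at hab
        have ha : a = 1 := center_free P a fun c => hs 0 (by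
          have h1 : Commute (f' b) (s 0 c) := (hcf c b).symm
          rw [map_mul, map_mul, eq_inv_of_mul_eq_one_left hab]
          exact h1.inv_left.eq)
        subst ha
        rw [map_one, one_mul, ← map_one f'] at hab
        rw [hf' hab]; rfl
      refine ⟨K, iK, iK', k, K', iK₂, iK₂', k', P, P', hd, hd', ι, hι, hιn, by_contra fun hD => ?_⟩
      obtain ⟨K₃, iK₃, iK₃', k₃, P₃, -, f₃, hf₃, hf₃C⟩ := exists_factor S hsol hD
      exact no_three S P P' P₃ hd' (s 0) f' f₃ (hs 0) hf' hf₃ hcf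
        (fun a c => mem_centralizer_iff.1 (hf₃C c) _ (hιr ▸ mem_sup_left (hsN 0 a)))
        (fun b c => mem_centralizer_iff.1 (hf₃C c) _ (hιr ▸ mem_sup_right (hr' ▸ ⟨b, rfl⟩)))
  | 2, _, e, he, her, s, hs, hsN, hsc, _ =>
    right
    let g : Cfsg.Sz K k × Cfsg.Sz K k →* (Fin 2 → Cfsg.Sz K k) :=
      { toFun := fun p => ![p.1, p.2]
        map_one' := by funext i; fin_cases i <;> rfl
        map_mul' := fun p q => by funext i; fin_cases i <;> rfl }
    have hg : Function.Bijective g :=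
      ⟨fun p q h => Prod.ext (congrFun h 0) (congrFun h 1), fun y => ⟨(y 0, y 1), by funext i; fin_cases i <;> rfl⟩⟩
    have hr : (e.comp g).range = N := by
      rw [MonoidHom.range_comp, MonoidHom.range_eq_top.2 hg.2, ← MonoidHom.range_eq_map, her]
    refine ⟨K, iK, iK', k, K, iK, iK', k, P, P, hd, hd, e.comp g, he.comp hg.1, hr.symm ▸ hNn,
      by_contra fun hD => ?_⟩
    rw [hr] at hD
    obtain ⟨K₃, iK₃, iK₃', k₃, P₃, -, f₃, hf₃, hf₃C⟩ := exists_factor S hsol hD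
    exact no_three S P P P₃ hd (s 0) (s 1) f₃ (hs 0) (hs 1) hf₃ (hsc 0 1 (by decide))
      (fun a c => mem_centralizer_iff.1 (hf₃C c) _ (hsN 0 a)) (fun a c => mem_centralizer_iff.1 (hf₃C c) _ (hsN 1 a))
  | n'' + 3, _, e, he, her, s, hs, hsN, hsc, _ =>
    exact absurd (no_three S P P P hd (s ⟨0, by omega⟩) (s ⟨1, by omega⟩) (s ⟨2, by omega⟩) (hs _) (hs _) (hs _)
      (hsc _ _ (by simp [Fin.ext_iff])) (hsc _ _ (by simp [Fin.ext_iff])) (hsc _ _ (by simp [Fin.ext_iff]))) id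

end Socle

section Cases

variable {G : Type u} [Group G] [Finite G]

theorem one_case (S : Shape m G) (hord : ∀ i j : Fin 4, ∃ g : G, tor m i ∣ orderOf g ∧ tor m j ∣ orderOf g)
    (R : Subgroup G) [R.Normal] [Group.IsSolvable R] {K : Type v} [Field K] [Fintype K] {k : ℕ} (P : Par K k)
    (hd : 2 * k + 1 ∣ 2 * m + 1) (ι : Cfsg.Sz K k →* G ⧸ R) (hι : Function.Injective ι) [ι.range.Normal]
    (hC : centralizer (ι.range : Set (G ⧸ R)) = ⊥) : False := by
  have hpow : ∀ (g : G ⧸ R) (n : ℕ), 2 * m + 1 ∣ n → g ^ n ∈ ι.range := fun g n hn =>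
    pow_mem_range P hι hC g (hd.trans hn)
  have hkm : k ≤ m := by have := Nat.le_of_dvd (by omega) hd; omega
  rcases lt_or_eq_of_le hkm with hlt | rfl
  · refine foreign S hord R ((2 * m + 1) * oddExpo k) (fun i h => ?_) fun g => ⟨2, ?_⟩
    · by_cases hi : i = 0
      · subst hi
        have h4 : (2 : ℕ) ∣ (2 * m + 1) * oddExpo k := (by decide : 2 ∣ 4).trans h
        have h5 := oddExpo_odd k
        rcases (Nat.prime_two.dvd_mul).1 h4 with h6 | h6 <;> omega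
      · refine not_dvd_one S.hm P.hm hd hlt hi (h.trans ⟨8, ?_⟩)
        rw [outer, ← four_oddExpo]; ring
    · obtain ⟨a, ha⟩ := hpow g _ dvd_rfl
      rw [pow_mul, ← ha, ← map_pow, ← map_pow, ← pow_mul, show oddExpo k * 2 ^ 2 = expo k by
        rw [← four_oddExpo]; ring, pow_expo P, map_one]
  · set Γ := ι.range.comap (QuotientGroup.mk' R) with hΓ
    let ψ : Γ →* Cfsg.Sz K k := (MonoidHom.ofInjective hι).symm.toMonoidHom.comp
      (((QuotientGroup.mk' R).comp Γ.subtype).codRestrict ι.range fun x => x.2)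
    let D : OneTop k Γ K :=
      { S := S.subgroup Γ
        Q := P
        ψ := ψ
        surj := fun a => by
          obtain ⟨g, hg⟩ := QuotientGroup.mk'_surjective R (ι a)
          refine ⟨⟨g, show QuotientGroup.mk' R g ∈ ι.range from hg ▸ ⟨a, rfl⟩⟩, ?_⟩
          show (MonoidHom.ofInjective hι).symm _ = a
          rw [MulEquiv.symm_apply_eq]
          exact Subtype.ext hg }
    haveI : Group.IsSolvable D.ψ.ker := by
      have hmem : ∀ x : D.ψ.ker, ((x : Γ) : G) ∈ R := by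
        rintro ⟨x, hx⟩
        have h1 : (MonoidHom.ofInjective hι).symm
            (((QuotientGroup.mk' R).comp Γ.subtype).codRestrict ι.range (fun x => x.2) x) = 1 := MonoidHom.mem_ker.1 hx
        rw [MulEquiv.map_eq_one_iff] at h1
        exact (QuotientGroup.eq_one_iff (x : G)).1 (congrArg Subtype.val h1)
      exact Group.isSolvable_of_isSolvable_injective
        (f := (Γ.subtype.comp D.ψ.ker.subtype).codRestrict R hmem)
        (fun a b h => Subtype.ext (Subtype.ext (congrArg (fun z : R => (z : G)) h)))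
    refine D.false_of_pairs fun i j hij => ?_
    obtain ⟨p, v, hp, hv, hpd, hpc⟩ := exists_rep (Nat.zero_lt_of_lt (tor_gt_one S.hm i)).ne' (not_dvd_outer S.hm i)
    obtain ⟨q, w, hq, hw, hqd, hqc⟩ := exists_rep (Nat.zero_lt_of_lt (tor_gt_one S.hm j)).ne' (not_dvd_outer S.hm j)
    obtain ⟨g, hgi, hgj⟩ := hord i j
    refine ⟨p, q, hp, hq, (dvd_pow_self p (by omega)).trans hpd, (dvd_pow_self q (by omega)).trans hqd,
      ⟨g ^ outer k, show QuotientGroup.mk' R (g ^ outer k) ∈ ι.range by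
        rw [map_pow]; exact hpow _ _ (dvd_mul_left _ _)⟩, ?_, ?_⟩
    · rw [← Subgroup.orderOf_coe]; exact dvd_pow_of_rep hp (hpd.trans hgi) hpc
    · rw [← Subgroup.orderOf_coe]; exact dvd_pow_of_rep hq (hqd.trans hgj) hqc

theorem foreign_two (S : Shape m G) (hord : ∀ i j : Fin 4, ∃ g : G, tor m i ∣ orderOf g ∧ tor m j ∣ orderOf g)
    (R : Subgroup G) [R.Normal] [Group.IsSolvable R] {K₁ : Type v₁} [Field K₁] [Fintype K₁] {k₁ : ℕ}
    {K₂ : Type v₂} [Field K₂] [Fintype K₂] {k₂ : ℕ} (P₁ : Par K₁ k₁) (P₂ : Par K₂ k₂)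
    (hd₁ : 2 * k₁ + 1 ∣ 2 * m + 1) (hd₂ : 2 * k₂ + 1 ∣ 2 * m + 1) (hl₁ : k₁ < m) (hl₂ : k₂ < m)
    (ι : Cfsg.Sz K₁ k₁ × Cfsg.Sz K₂ k₂ →* G ⧸ R) (hι : Function.Injective ι) [ι.range.Normal]
    (hC : centralizer (ι.range : Set (G ⧸ R)) = ⊥) : False := by
  set L := Nat.lcm (oddExpo k₁) (oddExpo k₂) with hL
  have hLodd : ¬ 2 ∣ L := fun h => by
    have h1 := oddExpo_odd k₁
    have h2 := oddExpo_odd k₂
    rcases (Nat.prime_two.dvd_mul).1 (h.trans (Nat.lcm_dvd_mul _ _)) with h3 | h3 <;> omega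
  refine foreign S hord R (2 * (2 * m + 1) * L) (fun i h => ?_) fun g => ⟨2, ?_⟩
  · by_cases hi : i = 0
    · subst hi
      have h4 : 2 * 2 ∣ 2 * ((2 * m + 1) * L) := by rw [← mul_assoc]; exact h
      rcases (Nat.prime_two.dvd_mul).1 ((Nat.mul_dvd_mul_iff_left two_pos).1 h4) with h6 | h6
      · omega
      · exact hLodd h6
    · refine not_dvd_two S.hm P₁.hm hd₁ hl₁ P₂.hm hd₂ hl₂ hi (h.trans (mul_dvd_mul dvd_rfl ?_))
      exact Nat.lcm_dvd
        ((Dvd.intro_left 4 (four_oddExpo k₁)).trans (Nat.dvd_lcm_left _ _))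
        ((Dvd.intro_left 4 (four_oddExpo k₂)).trans (Nat.dvd_lcm_right _ _))
  · obtain ⟨⟨a, b⟩, ha⟩ := pow_mem_range_two P₁ P₂ hι hC (g : G ⧸ R) hd₁ hd₂
    obtain ⟨c₁, hc₁⟩ : expo k₁ ∣ L * 2 ^ 2 := by
      rw [← four_oddExpo, mul_comm 4]; exact mul_dvd_mul_right (Nat.dvd_lcm_left _ _) _
    obtain ⟨c₂, hc₂⟩ : expo k₂ ∣ L * 2 ^ 2 := by
      rw [← four_oddExpo, mul_comm 4]; exact mul_dvd_mul_right (Nat.dvd_lcm_right _ _) _
    have h1 : a ^ (L * 2 ^ 2) = 1 := by rw [hc₁, pow_mul, pow_expo P₁, one_pow]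
    have h2 : b ^ (L * 2 ^ 2) = 1 := by rw [hc₂, pow_mul, pow_expo P₂, one_pow]
    rw [pow_mul, ← ha, ← map_pow, ← map_pow, ← pow_mul, Prod.pow_mk, h1, h2]
    exact map_one ι

theorem radical_trivial (S : Shape m G) (R : Subgroup G) [R.Normal] [Group.IsSolvable R]
    {K₁ : Type v₁} [Field K₁] [Fintype K₁] {K₂ : Type v₂} [Field K₂] [Fintype K₂] {k₂ : ℕ} (P₁ : Par K₁ m)
    (P₂ : Par K₂ k₂) (ι : Cfsg.Sz K₁ m × Cfsg.Sz K₂ k₂ →* G ⧸ R) (hι : Function.Injective ι) : R = ⊥ := by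
  classical
  by_contra hR
  obtain ⟨R₀, ⟨hR₀n, hR₀R, hR₀ne⟩, hmax⟩ :=
    (Set.toFinite {M : Subgroup G | M.Normal ∧ M ≤ R ∧ M ≠ R}).exists_maximal
    ⟨⊥, inferInstance, bot_le, fun e => hR e.symm⟩
  haveI := hR₀n
  let π : G ⧸ R₀ →* G ⧸ R := QuotientGroup.map R₀ R (MonoidHom.id G) hR₀R
  have hπ : Function.Surjective π := fun x => by
    obtain ⟨g, rfl⟩ := QuotientGroup.mk'_surjective R x
    exact ⟨(g : G ⧸ R₀), rfl⟩
  have hker : ∀ g : G, (g : G ⧸ R₀) ∈ π.ker ↔ g ∈ R := fun g => by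
    rw [MonoidHom.mem_ker]
    show ((g : G ⧸ R) = 1) ↔ _
    exact QuotientGroup.eq_one_iff g
  haveI : Group.IsSolvable π.ker := by
    refine Group.isSolvable_of_surjective (f := (((QuotientGroup.mk' R₀).comp R.subtype).codRestrict π.ker
      fun x => (hker x).2 x.2)) ?_
    rintro ⟨x, hx⟩
    obtain ⟨g, rfl⟩ := QuotientGroup.mk'_surjective R₀ x
    exact ⟨⟨g, (hker g).1 hx⟩, rfl⟩
  have hmin : ∀ W : Subgroup (G ⧸ R₀), W.Normal → W ≤ π.ker → W = ⊥ ∨ W = π.ker := by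
    intro W hW hle
    haveI := hW
    have h1 : R₀ ≤ W.comap (QuotientGroup.mk' R₀) := fun r hr => by
      show QuotientGroup.mk' R₀ r ∈ W
      rw [(QuotientGroup.eq_one_iff r).2 hr |> fun h => (h : QuotientGroup.mk' R₀ r = 1)]
      exact one_mem _
    by_cases h2 : W.comap (QuotientGroup.mk' R₀) = R
    · refine Or.inr (le_antisymm hle fun x hx => ?_)
      obtain ⟨g, rfl⟩ := QuotientGroup.mk'_surjective R₀ x
      exact (h2.symm.le ((hker g).1 hx) : g ∈ W.comap _)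
    · refine Or.inl ((eq_bot_iff_forall _).2 fun x hx => ?_)
      obtain ⟨g, rfl⟩ := QuotientGroup.mk'_surjective R₀ x
      exact (QuotientGroup.eq_one_iff g).2 (hmax ⟨inferInstance, fun y hy => (hker y).1 (hle hy), h2⟩ h1 hx)
  have hne : π.ker ≠ ⊥ := fun e => hR₀ne (le_antisymm hR₀R fun r hr =>
    (QuotientGroup.eq_one_iff r).1 ((eq_bot_iff_forall _).1 e _ ((hker r).2 hr)))
  haveI : Nontrivial π.ker := (nontrivial_iff_ne_bot _).2 hne
  have hcomm : ⁅π.ker, π.ker⁆ = ⊥ := by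
    refine (hmin _ inferInstance (commutator_le_self _)).resolve_right fun e => ?_
    have h1 : ⁅(⊤ : Subgroup π.ker), (⊤ : Subgroup π.ker)⁆ = ⊤ := by
      apply map_injective π.ker.subtype_injective
      rw [map_commutator, ← MonoidHom.range_eq_map, range_subtype, e]
    exact (Group.IsSolvable.commutator_lt_top_of_nontrivial π.ker).ne (by rw [_root_.commutator_def]; exact h1)
  have hab : ∀ a ∈ π.ker, ∀ b ∈ π.ker, Commute a b := fun a ha b hb => by
    have h1 := commutator_mem_commutator ha hb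
    rw [hcomm, mem_bot] at h1
    exact commutatorElement_eq_one_iff_commute.1 h1
  obtain ⟨r, hr, hrd⟩ := Nat.exists_prime_and_dvd (Finite.one_lt_card (α := π.ker)).ne'
  haveI := Fact.mk hr
  let W : Subgroup (G ⧸ R₀) :=
    { carrier := {x | x ∈ π.ker ∧ x ^ r = 1}
      one_mem' := ⟨one_mem _, one_pow r⟩
      mul_mem' := fun {a b} ha hb => ⟨mul_mem ha.1 hb.1, by rw [(hab a ha.1 b hb.1).mul_pow, ha.2, hb.2, one_mul]⟩
      inv_mem' := fun {a} ha => ⟨inv_mem ha.1, by rw [inv_pow, ha.2, inv_one]⟩ }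
  haveI : W.Normal := ⟨fun a ha g => ⟨(inferInstance : π.ker.Normal).conj_mem a ha.1 g, by
    rw [conj_pow, ha.2, mul_one, mul_inv_cancel]⟩⟩
  have hW : W = π.ker := (hmin W inferInstance fun x hx => hx.1).resolve_left fun e => by
    obtain ⟨⟨x, hx⟩, hxo⟩ := exists_prime_orderOf_dvd_card' (G := π.ker) r hrd
    rw [Subgroup.orderOf_mk] at hxo
    have h1 : x = 1 := (eq_bot_iff_forall W).1 e x ⟨hx, hxo ▸ pow_orderOf_eq_one x⟩
    exact hr.ne_one (by rw [← hxo, h1, orderOf_one])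
  exact no_radical (S.of_surjective (QuotientGroup.mk' R₀) (QuotientGroup.mk'_surjective R₀)) hπ hab hr
    (fun x hx => (hW.symm.le hx).2) hne P₁ P₂ ι hι

theorem iso_of_card {K : Type v} [Field K] [Fintype K] {F : Type v₁} [Field F] [Fintype F] (P : Par K m)
    (Q : Par F m) : Nonempty (Cfsg.Sz K m ≃* Cfsg.Sz F m) := by
  obtain ⟨ι⟩ := exists_embedding Q P dvd_rfl
  exact ⟨MulEquiv.ofBijective (emb Q P dvd_rfl ι) ((Nat.bijective_iff_injective_and_card _).2
    ⟨emb_injective Q P dvd_rfl ι, by rw [card_Sz P, card_Sz Q]⟩)⟩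

theorem two_case (S : Shape m G) (hord : ∀ i j : Fin 4, ∃ g : G, tor m i ∣ orderOf g ∧ tor m j ∣ orderOf g)
    (hm2 : m ≠ 2) {F : Type v} [Field F] [Fintype F] (Q : Par F m) (R : Subgroup G) [R.Normal] [Group.IsSolvable R]
    {K₁ : Type v₁} [Field K₁] [Fintype K₁] {K₂ : Type v₂} [Field K₂] [Fintype K₂] {k₂ : ℕ} (P₁ : Par K₁ m)
    (P₂ : Par K₂ k₂) (hd₂ : 2 * k₂ + 1 ∣ 2 * m + 1) (ι : Cfsg.Sz K₁ m × Cfsg.Sz K₂ k₂ →* G ⧸ R)
    (hι : Function.Injective ι) [ι.range.Normal] (hC : centralizer (ι.range : Set (G ⧸ R)) = ⊥) :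
    Nonempty (G ≃* Cfsg.Sz F m × Cfsg.Sz F m) := by
  have hR := radical_trivial S R P₁ P₂ ι hι
  subst hR
  let e : G ≃* G ⧸ (⊥ : Subgroup G) := (QuotientGroup.quotientBot (G := G)).symm
  have SH : Shape m (G ⧸ (⊥ : Subgroup G)) := S.of_surjective e.toMonoidHom e.surjective
  have hkm : k₂ ≤ m := by have := Nat.le_of_dvd (by omega) hd₂; omega
  rcases lt_or_eq_of_le hkm with hlt | rfl
  · exfalso
    obtain ⟨p, v, hp, hv, hpd, hpc⟩ :=
      exists_rep (Nat.zero_lt_of_lt (tor_gt_one S.hm 1)).ne' (not_dvd_one S.hm P₂.hm hd₂ hlt (by decide))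
    obtain ⟨q, w, hq, hw, hqd, hqc⟩ :=
      exists_rep (Nat.zero_lt_of_lt (tor_gt_one S.hm 2)).ne' (not_dvd_one S.hm P₂.hm hd₂ hlt (by decide))
    obtain ⟨g, hg1, hg2⟩ := hord 1 2
    have hp' := dvd_pow_of_rep (g := e g) hp ((e.orderOf_eq g).symm ▸ hpd.trans hg1) hpc
    have hq' := dvd_pow_of_rep (g := e g) hq ((e.orderOf_eq g).symm ▸ hqd.trans hg2) hqc
    obtain ⟨⟨a, b⟩, ha⟩ := pow_mem_range_two P₁ P₂ hι hC (e g) dvd_rfl hd₂
    have hh : e g ^ (outer m * expo k₂) = ι (a ^ expo k₂, 1) := by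
      rw [pow_mul, outer, ← ha, ← map_pow, Prod.pow_mk, pow_expo P₂]
    rw [hh, orderOf_injective ι hι, Prod.orderOf_mk, orderOf_one, Nat.lcm_one_right] at hp' hq'
    obtain ⟨i, hi⟩ := order_dvd P₁ (a ^ expo k₂)
    have h1 := class_unique S.hm hp ((dvd_pow_self p (by omega)).trans hpd) (hp'.trans hi)
    have h2 := class_unique S.hm hq ((dvd_pow_self q (by omega)).trans hqd) (hq'.trans hi)
    exact absurd (h1.trans h2.symm) (by decide)
  · obtain ⟨f₁⟩ := iso_of_card P₁ Q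
    obtain ⟨f₂⟩ := iso_of_card P₂ Q
    let ε := MulEquiv.ofBijective ι ⟨hι, fun x => full_of_shape SH hm2 P₁ P₂ ι hι hC x⟩
    exact ⟨e.trans (ε.symm.trans (f₁.prodCongr f₂))⟩

/-- A group with the element orders of the square of a Suzuki group is isomorphic to it. -/
theorem iso_of_shape (hm2 : m ≠ 2) {F : Type v} [Field F] [Fintype F] (Q : Par F m) (S : Shape m G)
    (hord : ∀ i j : Fin 4, ∃ g : G, tor m i ∣ orderOf g ∧ tor m j ∣ orderOf g) :
    Nonempty (G ≃* Cfsg.Sz F m × Cfsg.Sz F m) := by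
  classical
  obtain ⟨R, ⟨hRn, hRs⟩, hmax⟩ := (Set.toFinite {N : Subgroup G | N.Normal ∧ Group.IsSolvable N}).exists_maximal
    ⟨⊥, inferInstance, inferInstance⟩
  haveI := hRn
  haveI := hRs
  rcases subsingleton_or_nontrivial (G ⧸ R) with hs | hs
  · exact (foreign S hord R 1 (fun i h => (tor_gt_one S.hm i).ne' (Nat.dvd_one.1 h)) fun g =>
      ⟨0, Subsingleton.elim _ _⟩).elim
  have SH : Shape m (G ⧸ R) := S.of_surjective (QuotientGroup.mk' R) (QuotientGroup.mk'_surjective R)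
  have hsol : ∀ N : Subgroup (G ⧸ R), N.Normal → Group.IsSolvable N → N = ⊥ := by
    intro N hN hNs
    haveI := hN
    haveI := hNs
    set M := N.comap (QuotientGroup.mk' R)
    have hRM : R ≤ M := fun r hr => by
      show QuotientGroup.mk' R r ∈ N
      rw [(QuotientGroup.eq_one_iff r).2 hr |> fun h => (h : QuotientGroup.mk' R r = 1)]
      exact one_mem _
    haveI : Group.IsSolvable M := Group.isSolvable_of_ker_le_range (inclusion hRM)
      (((QuotientGroup.mk' R).comp M.subtype).codRestrict N fun x => x.2) fun x hx => by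
      have h1 : QuotientGroup.mk' R (x : G) = 1 := congrArg Subtype.val (MonoidHom.mem_ker.1 hx)
      exact ⟨⟨x, (QuotientGroup.eq_one_iff (x : G)).1 h1⟩, rfl⟩
    refine (eq_bot_iff_forall _).2 fun x hx => ?_
    obtain ⟨g, rfl⟩ := QuotientGroup.mk'_surjective R x
    exact (QuotientGroup.eq_one_iff g).2 (hmax ⟨inferInstance, inferInstance⟩ hRM hx)
  rcases exists_config SH hsol with ⟨K, iK, iK', k, P, hd, ι, hι, hn, hC⟩ |
    ⟨K₁, iK₁, iK₁', k₁, K₂, iK₂, iK₂', k₂, P₁, P₂, hd₁, hd₂, ι, hι, hn, hC⟩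
  · exact (one_case S hord R P hd ι hι hC).elim
  have h1 : k₁ ≤ m := by have := Nat.le_of_dvd (by omega) hd₁; omega
  have h2 : k₂ ≤ m := by have := Nat.le_of_dvd (by omega) hd₂; omega
  rcases lt_or_eq_of_le h1 with hl₁ | rfl
  · rcases lt_or_eq_of_le h2 with hl₂ | rfl
    · exact (foreign_two S hord R P₁ P₂ hd₁ hd₂ hl₁ hl₂ ι hι hC).elim
    · let ι' := ι.comp (MulEquiv.prodComm (M := Cfsg.Sz K₂ k₂) (N := Cfsg.Sz K₁ k₁)).toMonoidHom
      have hr : ι'.range = ι.range := by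
        rw [MonoidHom.range_comp, MonoidHom.range_eq_top.2 (MulEquiv.surjective _), ← MonoidHom.range_eq_map]
      haveI : ι'.range.Normal := hr.symm ▸ hn
      exact two_case S hord hm2 Q R P₂ P₁ hd₁ ι' (hι.comp (MulEquiv.injective _)) (hr.symm ▸ hC)
  · exact two_case S hord hm2 Q R P₁ P₂ hd₂ ι hι hC

/-- A group with the same set of element orders as the square of a Suzuki group is isomorphic to it. -/
theorem iso_of_orders (hm2 : m ≠ 2) {F : Type v} [Field F] [Fintype F] (Q : Par F m) {T : Type v₁} [Group T]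
    (eT : Cfsg.Sz F m ≃* T) (h : Set.range (orderOf : G → ℕ) = Set.range (orderOf : T × T → ℕ)) :
    Nonempty (G ≃* T × T) := by
  have S : Shape m G := ⟨Q.hm, fun g => by
    obtain ⟨⟨a, b⟩, hab⟩ := (h ▸ ⟨g, rfl⟩ : orderOf g ∈ Set.range (orderOf : T × T → ℕ))
    obtain ⟨i, hi⟩ := order_dvd Q (eT.symm a)
    obtain ⟨j, hj⟩ := order_dvd Q (eT.symm b)
    refine ⟨i, j, ?_⟩
    rw [MulEquiv.orderOf_eq] at hi hj
    rw [← hab, Prod.orderOf_mk]
    exact Nat.lcm_dvd (hi.trans (Nat.dvd_lcm_left _ _)) (hj.trans (Nat.dvd_lcm_right _ _))⟩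
  obtain ⟨e⟩ := iso_of_shape hm2 Q S fun i j => by
    obtain ⟨a, ha⟩ := order_exists Q i
    obtain ⟨b, hb⟩ := order_exists Q j
    obtain ⟨g, hg⟩ := (h.symm ▸ ⟨(eT a, eT b), rfl⟩ : orderOf (eT a, eT b) ∈ Set.range (orderOf : G → ℕ))
    rw [Prod.orderOf_mk, MulEquiv.orderOf_eq, MulEquiv.orderOf_eq, ha, hb] at hg
    exact ⟨g, hg ▸ Nat.dvd_lcm_left _ _, hg ▸ Nat.dvd_lcm_right _ _⟩
  exact ⟨e.trans (eT.prodCongr eT)⟩

end Cases

end Cfsg.Lib.SuzSquare
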